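import Mathlib
import Cfsg.Agent.H539.IdxOK
import Cfsg.Agent.H934.HeisE6
import Cfsg.Agent.H934.HeisE7
import Cfsg.Agent.H934.HeisE8
import Cfsg.Agent.S1063
import Cfsg.Agent.S1064
import Cfsg.Agent.S1065
import Cfsg.Agent.S2123
import Cfsg.Agent.S2124
import Cfsg.Agent.S2125

/-!
# `IdxOK` for the groups of type `E₆`, `E₇`, `E₈`

General criterion `of_pow`: `|Out T| |T| ≤ q ^ N`, proper indices at least `b`, `N (q - 1) ≤ b - 1`.
-/

set_option autoImplicit false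

namespace Cfsg.Agent.H599.IdxE

open Cfsg.Lie Cfsg.Agent.H539

universe u

theorem le_two_pow {q : ℕ} (hq : 1 ≤ q) : q ≤ 2 ^ (q - 1) := by
  have := Nat.lt_two_pow_self (n := q - 1)
  omega

/-- The criterion. -/
theorem of_pow {T : Type u} [Group T] [Finite T] {q N b : ℕ} (hq : 1 ≤ q)
    (h1 : Nat.card (Cfsg.Out T) * Nat.card T ≤ q ^ N) (hb : ∀ K : Subgroup T, K ≠ ⊤ → b ≤ K.index)
    (h2 : N * (q - 1) ≤ b - 1) : IdxOK T := by
  refine IdxOK.of_card le_rfl le_rfl hb (h1.trans ?_)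
  calc q ^ N ≤ (2 ^ (q - 1)) ^ N := Nat.pow_le_pow_left (le_two_pow hq) N
    _ = 2 ^ (N * (q - 1)) := by rw [← pow_mul, mul_comm]
    _ ≤ _ := Nat.pow_le_pow_right (by norm_num) h2

theorem exists_char (F : Type*) [Field F] [Fintype F] :
    ∃ p f : ℕ, p.Prime ∧ CharP F p ∧ 1 ≤ f ∧ Fintype.card F = p ^ f := by
  obtain ⟨p, hp⟩ := CharP.exists F
  obtain ⟨n, hpp, hn⟩ := FiniteField.card F p
  exact ⟨p, n, hpp, hp, n.pos, hn⟩

theorem le_pow {p f : ℕ} (hp : p.Prime) : f ≤ p ^ f := (Nat.lt_pow_self hp.one_lt).le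

theorem mul_sub_le (a b d : ℕ) (q : ℕ) : a * (q ^ d - 1) ≤ a * q ^ d := Nat.mul_le_mul_left _ (Nat.sub_le _ _)

theorem e6 {F : Type u} [Field F] [Fintype F] (hs : IsSimpleGroup ↥(chevE6.group F)) :
    IdxOK ↥(chevE6.group F) := by
  have : Finite (GL chevE6.Idx F) := inferInstance
  obtain ⟨p, f, hp, hc, hf, hF⟩ := exists_char F
  have : Fact p.Prime := ⟨hp⟩
  have hq : 2 ≤ Fintype.card F := Fintype.one_lt_card
  have hcard := S1063.result (F := F) rfl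
  have hout := S2123.result p f hF
  set q := Fintype.card F with hqd
  have ho : Nat.card (Cfsg.Out ↥(chevE6.group F)) ≤ 6 * q := by
    rw [hout]
    have h1 : Nat.gcd 3 (p ^ f - 1) ≤ 3 := Nat.gcd_le_left _ (by norm_num)
    have h2 : f ≤ q := hF ▸ le_pow hp
    calc 2 * Nat.gcd 3 (p ^ f - 1) * f ≤ 2 * 3 * q := Nat.mul_le_mul (Nat.mul_le_mul_left _ h1) h2
      _ = _ := by ring
  have ht : Nat.card ↥(chevE6.group F) ≤ q ^ 78 := by
    have h0 : 1 ≤ Nat.gcd 3 (q - 1) := Nat.gcd_pos_of_pos_left _ (by norm_num)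
    calc Nat.card ↥(chevE6.group F) ≤ Nat.gcd 3 (q - 1) * Nat.card ↥(chevE6.group F) := Nat.le_mul_of_pos_left _ h0
      _ = _ := hcard
      _ ≤ q ^ 36 * q ^ 2 * q ^ 5 * q ^ 6 * q ^ 8 * q ^ 9 * q ^ 12 := by gcongr <;> exact Nat.sub_le _ _
      _ = q ^ 78 := by ring
  refine of_pow (q := q) (N := 82) (b := 2 * q ^ 11) (by omega) ?_ (H934.HeisE6.two_mul_le hs) ?_
  · calc _ ≤ (6 * q) * q ^ 78 := Nat.mul_le_mul ho ht
      _ ≤ (q ^ 3 * q) * q ^ 78 := by
        have h3 : 2 ^ 3 ≤ q ^ 3 := Nat.pow_le_pow_left hq 3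
        gcongr
        omega
      _ = q ^ 82 := by ring
  · have h3 : 2 ^ 10 * q ≤ q ^ 11 := by
      rw [pow_succ]
      exact Nat.mul_le_mul_right _ (Nat.pow_le_pow_left hq 10)
    omega

theorem e7 {F : Type u} [Field F] [Fintype F] (hs : IsSimpleGroup ↥(chevE7.group F)) :
    IdxOK ↥(chevE7.group F) := by
  have : Finite (GL chevE7.Idx F) := inferInstance
  obtain ⟨p, f, hp, hc, hf, hF⟩ := exists_char F
  have : Fact p.Prime := ⟨hp⟩
  have hq : 2 ≤ Fintype.card F := Fintype.one_lt_card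
  have hcard := S1064.result (F := F) rfl
  have hout := S2124.result p f hF
  set q := Fintype.card F with hqd
  have ho : Nat.card (Cfsg.Out ↥(chevE7.group F)) ≤ 2 * q := by
    rw [hout]
    have h1 : Nat.gcd 2 (p ^ f - 1) ≤ 2 := Nat.gcd_le_left _ (by norm_num)
    have h2 : f ≤ q := hF ▸ le_pow hp
    exact Nat.mul_le_mul h1 h2
  have ht : Nat.card ↥(chevE7.group F) ≤ q ^ 133 := by
    have h0 : 1 ≤ Nat.gcd 2 (q - 1) := Nat.gcd_pos_of_pos_left _ (by norm_num)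
    calc Nat.card ↥(chevE7.group F) ≤ Nat.gcd 2 (q - 1) * Nat.card ↥(chevE7.group F) := Nat.le_mul_of_pos_left _ h0
      _ = _ := hcard
      _ ≤ q ^ 63 * q ^ 2 * q ^ 6 * q ^ 8 * q ^ 10 * q ^ 12 * q ^ 14 * q ^ 18 := by gcongr <;> exact Nat.sub_le _ _
      _ = q ^ 133 := by ring
  refine of_pow (q := q) (N := 135) (b := 2 * q ^ 17) (by omega) ?_ (H934.HeisE7.two_mul_le hs) ?_
  · calc _ ≤ (2 * q) * q ^ 133 := Nat.mul_le_mul ho ht
      _ ≤ (q * q) * q ^ 133 := by gcongr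
      _ = q ^ 135 := by ring
  · have h3 : 2 ^ 16 * q ≤ q ^ 17 := by
      rw [pow_succ]
      exact Nat.mul_le_mul_right _ (Nat.pow_le_pow_left hq 16)
    omega

theorem e8 {F : Type u} [Field F] [Fintype F] (hs : IsSimpleGroup ↥(chevE8.group F)) :
    IdxOK ↥(chevE8.group F) := by
  have : Finite (GL chevE8.Idx F) := inferInstance
  obtain ⟨p, f, hp, hc, hf, hF⟩ := exists_char F
  have : Fact p.Prime := ⟨hp⟩
  have hq : 2 ≤ Fintype.card F := Fintype.one_lt_card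
  have hcard := S1065.result (F := F) rfl
  have hout := S2125.result p f hF
  set q := Fintype.card F with hqd
  have ho : Nat.card (Cfsg.Out ↥(chevE8.group F)) ≤ q := by
    rw [hout]
    exact hF ▸ le_pow hp
  have ht : Nat.card ↥(chevE8.group F) ≤ q ^ 248 := by
    calc Nat.card ↥(chevE8.group F) = _ := hcard
      _ ≤ q ^ 120 * q ^ 2 * q ^ 8 * q ^ 12 * q ^ 14 * q ^ 18 * q ^ 20 * q ^ 24 * q ^ 30 := by
        gcongr <;> exact Nat.sub_le _ _
      _ = q ^ 248 := by ring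
  refine of_pow (q := q) (N := 249) (b := 2 * q ^ 29) (by omega) ?_ (H934.HeisE8.two_mul_le hs) ?_
  · calc _ ≤ q * q ^ 248 := Nat.mul_le_mul ho ht
      _ = q ^ 249 := by ring
  · have h3 : 2 ^ 28 * q ≤ q ^ 29 := by
      rw [pow_succ]
      exact Nat.mul_le_mul_right _ (Nat.pow_le_pow_left hq 28)
    omega

end Cfsg.Agent.H599.IdxE
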