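import Mathlib
import Cfsg.Agent.H934.HeisD4
import Cfsg.Agent.H599.IdxE
import Cfsg.Agent.S1062
import Cfsg.Agent.S2122

/-!
# The special group `q^{1+8}` of the long roots of `F₄(q)`

Every proper subgroup of `F₄(q)` has index at least `2 q⁵`; `IdxOK` for `F₄(q)`.
-/

set_option autoImplicit false

namespace Cfsg.Agent.H599.IdxF4

open Cfsg.Lie Cfsg.Agent.ChevalleyStructure.Elts Cfsg.Agent.H934.HeisRoot Cfsg.Agent.H934.HeisChev
  Cfsg.Agent.H934.HeisD4 Cfsg.Agent.H539 Cfsg.Agent.H599.IdxE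

/-- The tables of the long roots of `F₄`. -/
def tab : HTab 8 6 where
  S := fun i => at' 0 [24, 26, 31, 32, 42, 43, 45, 46] i
  th := 47
  B := fun i => at' 0 [25, 30, 41, 22, 17, 6] i
  opp := fun i => ⟨7 - i, by omega⟩
  e := fun i => at' 0 [-1, -1, 1, -1, 1, -1, 1, 1] i
  next := fun b i => dec8 (at' 0 (at' [] [[2, 0, 4, 0, 6, 0, 8, 0], [3, 4, 0, 0, 7, 8, 0, 0], [5, 6, 7, 8, 0, 0, 0, 0],
    [0, 1, 0, 3, 0, 5, 0, 7], [0, 0, 1, 2, 0, 0, 5, 6], [0, 0, 0, 0, 1, 2, 3, 4]] b) i)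
  cc := fun b i => at' 0 (at' [] [[1, 1, -1, 1, -1, 1, -1, 1], [1, -1, 1, 1, 1, 1, 1, 1], [1, -1, 1, 1, 1, 1, 1, 1],
    [1, 1, 1, -1, 1, -1, 1, -1], [1, 1, 1, -1, 1, 1, 1, 1], [1, 1, 1, 1, 1, -1, 1, 1]] b) i
  ng := fun b => ⟨((b : ℕ) + 3) % 6, Nat.mod_lt _ (by norm_num)⟩
  p := 3

theorem tab_ok : tab.Ok chevF4 where
  S_lt := by decide +kernel
  th_lt := by decide +kernel
  B_lt := by decide +kernel
  th_ne := by decide +kernel
  th_ne' := by decide +kernel
  S_ne := by decide +kernel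
  opp_ne := by decide +kernel
  opp_opp := by decide +kernel
  e_sq := by decide +kernel
  B_ne := by decide +kernel
  c_sq := by decide +kernel
  B_comm := by decide +kernel
  ng_spec := by decide +kernel
  p_lt := by decide +kernel
  p_th := by decide +kernel
  iso := fun i => ⟨path i (tab.opp i), tab.opp i, by revert i; decide +kernel⟩
  conn := fun i j => ⟨path i j, by revert i j; decide +kernel⟩

theorem hD : InList chevF4 := by simp [InList]

universe u

/-- The index bound. -/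
theorem sq_le {F : Type u} [Field F] [Fintype F] (hs : IsSimpleGroup ↥(chevF4.group F))
    (H : Subgroup ↥(chevF4.group F)) (hH : H ≠ ⊤) : 4 * Fintype.card F ^ 10 ≤ H.index ^ 2 := by
  have : Finite (GL chevF4.Idx F) := inferInstance
  have hq : 2 ≤ Fintype.card F := Fintype.one_lt_card
  rcases bound hD tab tab_ok (by norm_num) (MonoidHom.id ↥(chevF4.group F)) Function.injective_id hH 2
    (Or.inl rfl) with h | h
  · have h1 := Nat.pow_le_pow_left h 2
    refine le_trans ?_ h1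
    rw [← pow_mul]
    calc 4 * Fintype.card F ^ 10 ≤ Fintype.card F ^ 2 * Fintype.card F ^ 10 := by
          apply Nat.mul_le_mul_right
          nlinarith
      _ = Fintype.card F ^ 12 := by ring
      _ ≤ _ := Nat.pow_le_pow_right (by omega) (by norm_num)
  · exact h

theorem two_mul_le {F : Type u} [Field F] [Fintype F] (hs : IsSimpleGroup ↥(chevF4.group F))
    (H : Subgroup ↥(chevF4.group F)) (hH : H ≠ ⊤) : 2 * Fintype.card F ^ 5 ≤ H.index := by
  have h := sq_le hs H hH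
  have h1 : (2 * Fintype.card F ^ 5) ^ 2 ≤ H.index ^ 2 := by
    calc (2 * Fintype.card F ^ 5) ^ 2 = 4 * Fintype.card F ^ 10 := by ring
      _ ≤ _ := h
  exact (Nat.pow_le_pow_iff_left (by norm_num)).1 h1

theorem f4 {F : Type u} [Field F] [Fintype F] (hs : IsSimpleGroup ↥(chevF4.group F)) :
    IdxOK ↥(chevF4.group F) := by
  have : Finite (GL chevF4.Idx F) := inferInstance
  obtain ⟨p, f, hp, hc, hf, hF⟩ := exists_char F
  have : Fact p.Prime := ⟨hp⟩
  have hq : 2 ≤ Fintype.card F := Fintype.one_lt_card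
  have hcard := S1062.result (F := F) rfl
  have hout := S2122.result p f hF
  set q := Fintype.card F with hqd
  have ho : Nat.card (Cfsg.Out ↥(chevF4.group F)) ≤ 2 * q := by
    rw [hout]
    have h1 : Nat.gcd 2 p ≤ 2 := Nat.gcd_le_left _ (by norm_num)
    have h2 : f ≤ q := hF ▸ le_pow hp
    exact Nat.mul_le_mul h1 h2
  have ht : Nat.card ↥(chevF4.group F) ≤ q ^ 52 := by
    calc Nat.card ↥(chevF4.group F) = _ := hcard
      _ ≤ q ^ 24 * q ^ 2 * q ^ 6 * q ^ 8 * q ^ 12 := by gcongr <;> exact Nat.sub_le _ _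
      _ = q ^ 52 := by ring
  refine of_pow (q := q) (N := 54) (b := 2 * q ^ 5) (by omega) ?_ (two_mul_le hs) ?_
  · calc _ ≤ (2 * q) * q ^ 52 := Nat.mul_le_mul ho ht
      _ ≤ (q * q) * q ^ 52 := by gcongr
      _ = q ^ 54 := by ring
  · have h3 : 2 ^ 4 * q ≤ q ^ 5 := by
      rw [pow_succ]
      exact Nat.mul_le_mul_right _ (Nat.pow_le_pow_left hq 4)
    rcases Nat.lt_or_ge q 3 with h4 | h4
    · have : q = 2 := by omega
      rw [this]; norm_num
    · have h5 : 3 ^ 4 * q ≤ q ^ 5 := by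
        rw [pow_succ]
        exact Nat.mul_le_mul_right _ (Nat.pow_le_pow_left h4 4)
      omega

end Cfsg.Agent.H599.IdxF4
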