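import Mathlib
import Cfsg.Agent.S0713
import Cfsg.Agent.SmallSimple.Embed
import Cfsg.Agent.SmallSimple.IndexJordan

/-!
# Lower bounds for indices of proper subgroups of simple groups

* `prime_le_index`: a prime divisor of `|T|` is at most the index of a proper subgroup;
* `le_index_of_check`: indices `n` of maximal subgroups satisfy `n ∣ |T|`, `2 |T| ∣ n!`, and there is no prime divisor
  `p` of `|T|` with `n / 2 < p ≤ n - 3` (Jordan).
-/

set_option autoImplicit false

namespace Cfsg.Agent.H599.IdxJor

open MulAction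
open scoped Nat
open Cfsg.Agent.SmallSimple Cfsg.Agent.SmallSimple.IndexJordan

universe u

variable {T : Type u} [Group T] [Finite T] [IsSimpleGroup T]

theorem prime_le_index (hT : ¬ IsMulCommutative T) {p : ℕ} (hp : p.Prime) (hd : p ∣ Nat.card T) (K : Subgroup T)
    (hK : K ≠ ⊤) : p ≤ K.index := by
  have h1 := Embed.two_mul_card_dvd_factorial_index hT K hK
  exact (hp.dvd_factorial).1 ((hd.trans (Dvd.intro_left 2 rfl)).trans h1)

/-- No prime divisor `p` of `|T|` with `n / 2 < p ≤ n - 3` for a maximal subgroup of index `n`. -/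
theorem no_prime {M : Subgroup T} (hM : IsCoatom M) {p : ℕ} (hp : p.Prime)
    (hd : p ∣ Nat.card T) (h1 : M.index < 2 * p) (h2 : p + 3 ≤ M.index) (h3 : 2 * Nat.card T < (M.index)!) : False := by
  classical
  have : Fact p.Prime := ⟨hp⟩
  let X := T ⧸ M
  have hX : Nat.card X = M.index := rfl
  have : Fintype X := Fintype.ofFinite X
  have hXf : Fintype.card X = M.index := by rw [← hX, Nat.card_eq_fintype_card]
  let f : T →* Equiv.Perm X := toPermHom T X
  have hf : Function.Injective f := toPermHom_injective hM.1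
  have hprim : IsPreprimitive T X := isPreprimitive_quotient hM
  have hprim' : IsPreprimitive f.range X := isPreprimitive_range T X
  obtain ⟨g, hg⟩ := exists_prime_orderOf_dvd_card' p hd
  have hσ : orderOf (f g) = p := by rw [orderOf_injective f hf, hg]
  obtain ⟨k, hk⟩ := Equiv.Perm.cycleType_prime_order (by rw [hσ]; exact hp)
  have hs : (f g).support.card = (k + 1) * p := by
    rw [← Equiv.Perm.sum_cycleType, hk, Multiset.sum_replicate, smul_eq_mul, hσ]
  have hle : (f g).support.card ≤ M.index := by
    rw [← hXf]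
    exact Finset.card_le_univ _
  have hk0 : k = 0 := by
    by_contra hk0
    have : 2 * p ≤ (k + 1) * p := Nat.mul_le_mul_right p (by omega)
    omega
  subst hk0
  have hcyc : (f g).IsCycle := by
    rw [← Equiv.Perm.card_cycleType_eq_one, hk, Multiset.card_replicate]
  have hJ := Cfsg.Agent.S0713.result f.range hprim' hp (by rw [hXf]; have := hp.two_le; omega) (by rw [hXf]; omega)
    (g := f g) hcyc (by rw [hs]; ring) ⟨g, rfl⟩
  have hcardle := Subgroup.card_le_of_le hJ
  have h4 : Nat.card f.range = Nat.card T := (Nat.card_congr (MonoidHom.ofInjective hf).toEquiv).symm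
  rw [h4] at hcardle
  have : Nontrivial X := by
    rw [← Fintype.one_lt_card_iff_nontrivial, hXf]; have := hp.two_le; omega
  have h5 : 2 * Nat.card (alternatingGroup X) = Nat.card (Equiv.Perm X) := two_mul_nat_card_alternatingGroup
  rw [Nat.card_perm, hX] at h5
  omega

/-- The test: all `n < N` are excluded as indices of maximal subgroups of a simple group of order `t`. -/
def chk (t : ℕ) (P : List ℕ) (N : ℕ) : Bool :=
  (List.range N).all fun n => decide (n < 2) || !(t % n == 0) || !(n ! % (2 * t) == 0) ||
    P.any fun p => t % p == 0 && decide (n < 2 * p) && decide (p + 3 ≤ n) && decide (2 * t < n !)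

theorem le_index_of_check (hT : ¬ IsMulCommutative T) {t : ℕ} (ht : Nat.card T = t) {P : List ℕ}
    (hP : ∀ p ∈ P, p.Prime) {N : ℕ} (h : chk t P N = true) (K : Subgroup T) (hK : K ≠ ⊤) : N ≤ K.index := by
  obtain ⟨M, hM, hHM⟩ := (eq_top_or_exists_le_coatom K).resolve_left hK
  have hMle : M.index ≤ K.index :=
    Nat.le_of_dvd (Nat.pos_of_ne_zero Subgroup.index_ne_zero_of_finite) (Subgroup.index_dvd_of_le hHM)
  refine le_trans ?_ hMle
  by_contra hlt
  push Not at hlt
  have h1 := (List.all_eq_true.1 h) M.index (List.mem_range.2 hlt)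
  have h2 : 2 ≤ M.index := by
    have h3 : M.index ≠ 1 := fun h => hM.1 (Subgroup.index_eq_one.1 h)
    have h4 : M.index ≠ 0 := Subgroup.index_ne_zero_of_finite
    omega
  have h3 : t % M.index = 0 := by
    rw [← ht]; exact Nat.mod_eq_zero_of_dvd (Subgroup.index_dvd_card M)
  have h4 : (M.index)! % (2 * t) = 0 := by
    rw [← ht]; exact Nat.mod_eq_zero_of_dvd (Embed.two_mul_card_dvd_factorial_index hT M hM.1)
  simp only [Bool.or_eq_true, decide_eq_true_eq, Bool.not_eq_true', beq_eq_false_iff_ne, ne_eq, List.any_eq_true,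
    Bool.and_eq_true, beq_iff_eq] at h1
  rcases h1 with ((h1 | h1) | h1) | ⟨p, hp, ⟨⟨h5, h6⟩, h7⟩, h8⟩
  · omega
  · exact h1 h3
  · exact h1 h4
  · exact no_prime hM (hP p hp) (by rw [ht]; exact Nat.dvd_of_mod_eq_zero h5) h6 h7 (by rw [ht]; exact h8)

theorem t1 : chk 29120 [7] 14 = true := by decide +kernel
theorem t2 : chk 4245696 [13] 26 = true := by decide +kernel
theorem t3 : chk 211341312 [13] 26 = true := by decide +kernel
theorem t4 : chk 251596800 [13] 26 = true := by decide +kernel

end Cfsg.Agent.H599.IdxJor
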