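import Mathlib
import Cfsg.Agent.H539.IdxOK
import Cfsg.Agent.H599.IdxE
import Cfsg.Agent.H599.IdxJor
import Cfsg.Agent.H934.IdxSz
import Cfsg.Agent.H934.IdxRee
import Cfsg.Agent.H934.IdxTwF4
import Cfsg.Agent.S1068
import Cfsg.Agent.S1069
import Cfsg.Agent.S1163
import Cfsg.Agent.S2126
import Cfsg.Agent.S2127
import Cfsg.Agent.S2128

/-!
# `IdxOK` for `Sz(q)`, `²G₂(q)`, `²F₄(q)`
-/

set_option autoImplicit false

namespace Cfsg.Agent.H599.IdxSR

open Cfsg.Lie Cfsg.Agent.H539 Cfsg.Agent.H599.IdxE Cfsg.Agent.H599.IdxJor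

universe u

theorem six_mul_lt {f : ℕ} (h : 5 ≤ f) : 6 * f + 1 ≤ 2 ^ f := by
  induction f, h using Nat.le_induction with
  | base => norm_num
  | succ n hn ih => rw [pow_succ]; omega

theorem twentyseven_mul_lt {f : ℕ} (h : 9 ≤ f) : 27 * f + 1 ≤ 2 ^ f := by
  induction f, h using Nat.le_induction with
  | base => norm_num
  | succ n hn ih => rw [pow_succ]; omega

theorem thirtytwo_mul_lt {f : ℕ} (h : 5 ≤ f) : 32 * f + 1 ≤ 3 ^ f := by
  induction f, h using Nat.le_induction with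
  | base => norm_num
  | succ n hn ih => rw [pow_succ]; omega

/-- `|Out T| ≤ f`, `|T| ≤ q ^ N`, `q = 2 ^ f`. -/
theorem of_two {T : Type u} [Group T] [Finite T] {f N b : ℕ} (ho : Nat.card (Cfsg.Out T) = f)
    (ht : Nat.card T ≤ (2 ^ f) ^ N) (hb : ∀ K : Subgroup T, K ≠ ⊤ → b ≤ K.index) (h : (N + 1) * f + 1 ≤ b) :
    IdxOK T := by
  refine IdxOK.of_card ho.le ht hb ?_
  have h1 : f ≤ 2 ^ f := Nat.lt_two_pow_self.le
  calc f * (2 ^ f) ^ N ≤ 2 ^ f * (2 ^ f) ^ N := Nat.mul_le_mul_right _ h1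
    _ = 2 ^ ((N + 1) * f) := by rw [← pow_succ', ← pow_mul, mul_comm]
    _ ≤ _ := Nat.pow_le_pow_right (by norm_num) (by omega)

theorem sz {F : Type u} [Field F] [Fintype F] {m : ℕ} (hm : 1 ≤ m) (hF : Fintype.card F = 2 ^ (2 * m + 1))
    (hs : IsSimpleGroup ↥(Cfsg.Lie.Sz F (2 ^ (m + 1)))) (hna : ¬ IsMulCommutative ↥(Cfsg.Lie.Sz F (2 ^ (m + 1)))) :
    IdxOK ↥(Cfsg.Lie.Sz F (2 ^ (m + 1))) := by
  classical
  have hout := S2126.result hm hF
  have hcard := (S1163.result hm hF).1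
  have hb := H934.IdxSz.card_le_index hF hs
  rcases Nat.lt_or_ge m 2 with h | h
  · have hm1 : m = 1 := by omega
    subst hm1
    have hcard' : Nat.card ↥(Cfsg.Lie.Sz F (2 ^ (1 + 1))) = 29120 := hcard.trans (by norm_num)
    have h14 := le_index_of_check hna hcard' (P := [7]) (by norm_num) t1
    exact IdxOK.of_bound hna hout.le hcard'.le (b := 14) (by norm_num) h14 (by norm_num)
  · have ht : Nat.card ↥(Cfsg.Lie.Sz F (2 ^ (m + 1))) ≤ (2 ^ (2 * m + 1)) ^ 5 := by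
      rw [hcard]
      set q := 2 ^ (2 * m + 1) with hq
      have hq1 : 1 ≤ q := Nat.one_le_two_pow
      obtain ⟨r, hr⟩ : ∃ r, q = r + 1 := ⟨q - 1, by omega⟩
      rw [hr]
      simp only [Nat.add_sub_cancel]
      have : r * ((r + 1) ^ 2 + 1) ≤ (r + 1) ^ 3 := by nlinarith [Nat.zero_le r]
      calc (r + 1) ^ 2 * r * ((r + 1) ^ 2 + 1) = (r + 1) ^ 2 * (r * ((r + 1) ^ 2 + 1)) := by ring
        _ ≤ (r + 1) ^ 2 * (r + 1) ^ 3 := Nat.mul_le_mul_left _ this
        _ = _ := by ring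
    refine of_two (b := 2 ^ (2 * m + 1)) hout ht (fun K hK => hF ▸ hb K hK) ?_
    exact six_mul_lt (by omega)

theorem ree {K : Type u} [Field K] [Fintype K] {m : ℕ} (hm : 1 ≤ m) (hK : Fintype.card K = 3 ^ (2 * m + 1))
    (hs : IsSimpleGroup ↥(twistedG2 K (3 ^ m))) (hna : ¬ IsMulCommutative ↥(twistedG2 K (3 ^ m))) :
    IdxOK ↥(twistedG2 K (3 ^ m)) := by
  classical
  have : Finite (GL chevG2.Idx K) := inferInstance
  have hout := S2127.result hm hK
  have hcard := S1069.result hK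
  have hb := H934.IdxRee.card_le_two_mul hK hs
  rcases Nat.lt_or_ge m 2 with h | h
  · have hm1 : m = 1 := by omega
    subst hm1
    have hcard' : Nat.card ↥(twistedG2 K (3 ^ 1)) = 10073444472 := hcard.trans (by norm_num)
    have h37 := prime_le_index hna (p := 37) (by norm_num) (by rw [hcard']; norm_num)
    exact IdxOK.of_card hout.le hcard'.le (b := 37) h37 (by norm_num)
  · set f := 2 * m + 1 with hf
    have ht : Nat.card ↥(twistedG2 K (3 ^ m)) ≤ (3 ^ f) ^ 7 := by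
      rw [hcard]
      set q := 3 ^ f with hq
      have hq1 : 1 ≤ q := Nat.one_le_pow _ _ (by norm_num)
      obtain ⟨r, hr⟩ : ∃ r, q = r + 1 := ⟨q - 1, by omega⟩
      rw [hr]
      simp only [Nat.add_sub_cancel]
      have : r * ((r + 1) ^ 3 + 1) ≤ (r + 1) ^ 4 := by
        have h1 : r ≤ (r + 1) ^ 3 := (Nat.le_succ r).trans (Nat.le_self_pow (by norm_num) _)
        calc r * ((r + 1) ^ 3 + 1) = r * (r + 1) ^ 3 + r := by ring
          _ ≤ r * (r + 1) ^ 3 + (r + 1) ^ 3 := Nat.add_le_add_left h1 _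
          _ = _ := by ring
      calc (r + 1) ^ 3 * r * ((r + 1) ^ 3 + 1) = (r + 1) ^ 3 * (r * ((r + 1) ^ 3 + 1)) := by ring
        _ ≤ (r + 1) ^ 3 * (r + 1) ^ 4 := Nat.mul_le_mul_left _ this
        _ = _ := by ring
    refine IdxOK.of_card hout.le ht (b := 16 * f + 1) ?_ ?_
    · intro H hH
      have h1 := hb H hH
      have h2 := thirtytwo_mul_lt (f := f) (by omega)
      rw [hK] at h1
      omega
    · rw [Nat.add_sub_cancel]
      have h1 : f ≤ 2 ^ f := Nat.lt_two_pow_self.le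
      have h2 : (2 : ℕ) ^ f ≤ 4 ^ f := Nat.pow_le_pow_left (by norm_num) f
      have h3 : (3 : ℕ) ^ f ≤ 4 ^ f := Nat.pow_le_pow_left (by norm_num) f
      calc f * (3 ^ f) ^ 7 ≤ 4 ^ f * (4 ^ f) ^ 7 := Nat.mul_le_mul (h1.trans h2) (Nat.pow_le_pow_left h3 7)
        _ = 2 ^ (16 * f) := by
          rw [← pow_succ', ← pow_mul, show (4 : ℕ) = 2 ^ 2 by norm_num, ← pow_mul]
          congr 1
          ring

theorem tf4 {K : Type u} [Field K] [Fintype K] {m : ℕ} (hm : 1 ≤ m) (hK : Fintype.card K = 2 ^ (2 * m + 1))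
    (hs : IsSimpleGroup ↥(twistedF4 K (2 ^ m))) (hna : ¬ IsMulCommutative ↥(twistedF4 K (2 ^ m))) :
    IdxOK ↥(twistedF4 K (2 ^ m)) := by
  classical
  have : Finite (GL chevF4.Idx K) := inferInstance
  have hout := S2128.result hm hK
  have hcard := S1068.result hK
  have hb := H934.IdxTwF4.card_le_index hK hs
  have ht : Nat.card ↥(twistedF4 K (2 ^ m)) ≤ (2 ^ (2 * m + 1)) ^ 26 := by
    rw [hcard]
    set q := 2 ^ (2 * m + 1) with hq
    have hq1 : 1 ≤ q := Nat.one_le_two_pow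
    have e1 : (q - 1) * (q ^ 3 + 1) ≤ q ^ 4 := by
      obtain ⟨r, hr⟩ : ∃ r, q = r + 1 := ⟨q - 1, by omega⟩
      rw [hr]
      simp only [Nat.add_sub_cancel]
      have h1 : r ≤ (r + 1) ^ 3 := (Nat.le_succ r).trans (Nat.le_self_pow (by norm_num) _)
      calc r * ((r + 1) ^ 3 + 1) = r * (r + 1) ^ 3 + r := by ring
        _ ≤ r * (r + 1) ^ 3 + (r + 1) ^ 3 := Nat.add_le_add_left h1 _
        _ = _ := by ring
    have e2 : (q ^ 4 - 1) * (q ^ 6 + 1) ≤ q ^ 10 := by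
      have hq4 : 1 ≤ q ^ 4 := Nat.one_le_pow _ _ hq1
      obtain ⟨r, hr⟩ : ∃ r, q ^ 4 = r + 1 := ⟨q ^ 4 - 1, by omega⟩
      have h1 : r ≤ q ^ 6 := by
        have : q ^ 4 ≤ q ^ 6 := Nat.pow_le_pow_right hq1 (by norm_num)
        omega
      have h2 : q ^ 10 = (r + 1) * q ^ 6 := by rw [← hr]; ring
      rw [h2, hr, Nat.add_sub_cancel]
      calc r * (q ^ 6 + 1) = r * q ^ 6 + r := by ring
        _ ≤ r * q ^ 6 + q ^ 6 := Nat.add_le_add_left h1 _
        _ = _ := by ring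
    calc q ^ 12 * (q - 1) * (q ^ 3 + 1) * (q ^ 4 - 1) * (q ^ 6 + 1)
        = q ^ 12 * ((q - 1) * (q ^ 3 + 1)) * ((q ^ 4 - 1) * (q ^ 6 + 1)) := by ring
      _ ≤ q ^ 12 * q ^ 4 * q ^ 10 := Nat.mul_le_mul (Nat.mul_le_mul_left _ e1) e2
      _ = _ := by ring
  rcases Nat.lt_or_ge m 4 with h | h
  · have hd : ∀ p : ℕ, p ∣ (2 ^ (2 * m + 1)) ^ 6 + 1 → p ∣ Nat.card ↥(twistedF4 K (2 ^ m)) := fun p hp => by
      rw [hcard]; exact hp.mul_left _
    interval_cases m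
    · exact of_two hout ht (prime_le_index hna (p := 109) (by norm_num) (hd _ (by norm_num))) (by norm_num)
    · exact of_two hout ht (prime_le_index hna (p := 1321) (by norm_num) (hd _ (by norm_num))) (by norm_num)
    · exact of_two hout ht (prime_le_index hna (p := 1429) (by norm_num) (hd _ (by norm_num))) (by norm_num)
  · refine of_two (b := 2 ^ (2 * m + 1)) hout ht (fun H hH => hK ▸ hb H hH) ?_
    exact twentyseven_mul_lt (by omega)

end Cfsg.Agent.H599.IdxSR
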