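import Cfsg.Agent.H539.TabAsm
import Cfsg.Agent.H599.IdxE
import Cfsg.Agent.H599.IdxF4
import Cfsg.Agent.H599.IdxSR

/-!
# Rows of the table `IdxOK`: `E₆`, `E₇`, `E₈`, `F₄`, `Sz`, `²G₂`, `²F₄`
-/

set_option autoImplicit false

namespace Cfsg.Agent.H599.RowsA

open Cfsg Cfsg.Agent.H539

/-- Transport. -/
theorem of_equiv {T : Type} [Group T] [IsSimpleGroup T] (hT : ¬ IsMulCommutative T) {X : Type} [Group X]
    (e : T ≃* X) (h : IsSimpleGroup X → ¬ IsMulCommutative X → IdxOK X) : IdxOK T := by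
  refine (h e.symm.isSimpleGroup ?_).congr e.symm
  intro hc
  apply hT
  refine ⟨⟨fun a b => e.injective ?_⟩⟩
  rw [map_mul, map_mul]
  exact hc.is_comm.comm _ _

theorem f4 : RowOf (fun T _ => Lie.IsoF4 T) := by
  rintro T _ _ _ hT ⟨F, _, _, ⟨e⟩⟩
  exact of_equiv hT e fun h _ => IdxF4.f4 h

theorem e6 : RowOf (fun T _ => Lie.IsoChevE6 T) := by
  rintro T _ _ _ hT ⟨F, _, _, ⟨e⟩⟩
  exact of_equiv hT e fun h _ => IdxE.e6 h

theorem e7 : RowOf (fun T _ => Lie.IsoE7 T) := by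
  rintro T _ _ _ hT ⟨F, _, _, ⟨e⟩⟩
  exact of_equiv hT e fun h _ => IdxE.e7 h

theorem e8 : RowOf (fun T _ => Lie.IsoE8 T) := by
  rintro T _ _ _ hT ⟨F, _, _, ⟨e⟩⟩
  exact of_equiv hT e fun h _ => IdxE.e8 h

theorem suzuki : RowOf (fun T _ => Lie.IsoSuzuki T) := by
  rintro T _ _ _ hT ⟨F, _, _, m, hm, hF, ⟨e⟩⟩
  exact of_equiv hT e fun h h' => IdxSR.sz hm hF h h'

theorem ree : RowOf (fun T _ => Lie.IsoRee T) := by
  rintro T _ _ _ hT ⟨F, _, _, m, hm, hF, ⟨e⟩⟩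
  exact of_equiv hT e fun h h' => IdxSR.ree hm hF h h'

theorem twF4 : RowOf (fun T _ => Lie.Iso2F4 T) := by
  rintro T _ _ _ hT ⟨F, _, _, m, hm, hF, ⟨e⟩⟩
  exact of_equiv hT e fun h h' => IdxSR.tf4 hm hF h h'

end Cfsg.Agent.H599.RowsA
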