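import Mathlib
import Cfsg.Agent.H934.Heis

/-!
# Index bounds from special subgroups

`SD Γ V A`: elements `X v` (`v ∈ V`), `z a` (`a ∈ A`) of the group `Γ` with `[X v, X w] = z (om v w)`, `om` non-degenerate
in the strong sense `special`. If `Γ` maps to a simple group `T` and all `z a`, `a ≠ 0`, are conjugate, then proper
subgroups of `T` have index `n` with `n² ≥ |V| |A|²` (`SD.index_sq`).

`Sp`: the same in terms of root elements with coordinates in groups `V i` that may depend on `i`; `Sp.toSD`.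
-/

set_option autoImplicit false

namespace Cfsg.Agent.H599.Spec

open MulAction Cfsg.Agent.H934.Burn Cfsg.Agent.H934.Heis

/-- Coordinates for a special subgroup. -/
structure SD (Γ V A : Type*) [Group Γ] [AddCommGroup V] [AddCommGroup A] where
  X : V → Γ
  z : A → Γ
  om : V → V → A
  z_add : ∀ a b, z (a + b) = z a * z b
  z_inj : ∀ a, z a = 1 → a = 0
  X_add : ∀ v w, ∃ a, X (v + w) = X v * X w * z a
  X_z : ∀ v a, X v * z a = z a * X v
  comm : ∀ v w, X v * X w = X w * X v * z (om v w)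
  special : ∀ v, v ≠ 0 → ∀ a, ∃ w, om v w = a

namespace SD

variable {Γ V A : Type*} [Group Γ] [AddCommGroup V] [AddCommGroup A] (D : SD Γ V A)

theorem z_zero : D.z 0 = 1 := by
  have h := D.z_add 0 0
  rw [add_zero] at h
  exact mul_right_cancel (b := D.z 0) (by rw [← h, one_mul])

theorem z_neg (a : A) : D.z (-a) = (D.z a)⁻¹ := by
  rw [eq_inv_iff_mul_eq_one, ← D.z_add, neg_add_cancel, D.z_zero]

theorem uniq [Nontrivial A] (v : V) (a : A) (h : D.X v = D.z a) : v = 0 := by
  by_contra hv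
  obtain ⟨b, hb⟩ := exists_ne (0 : A)
  obtain ⟨w, hw⟩ := D.special v hv b
  have h1 := D.comm v w
  rw [h, D.X_z, hw] at h1
  exact hb (D.z_inj b (mul_left_cancel (a := D.z a * D.X w) (by rw [← h1, mul_one])))

theorem z_comm (a b : A) : D.z a * D.z b = D.z b * D.z a := by rw [← D.z_add, ← D.z_add, add_comm]

theorem exists_X_zero : ∃ a, D.X 0 = D.z a := by
  obtain ⟨a, ha⟩ := D.X_add 0 0
  refine ⟨-a, ?_⟩
  rw [add_zero] at ha
  rw [D.z_neg, eq_inv_iff_mul_eq_one]
  apply mul_left_cancel (a := D.X 0)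
  rw [← mul_assoc, ← ha, mul_one]

theorem exists_X_neg (v : V) : ∃ a, (D.X v)⁻¹ = D.X (-v) * D.z a := by
  obtain ⟨a, ha⟩ := D.X_add v (-v)
  obtain ⟨b, hb⟩ := D.exists_X_zero
  rw [add_neg_cancel, hb] at ha
  refine ⟨a - b, ?_⟩
  rw [inv_eq_iff_mul_eq_one, ← mul_assoc, sub_eq_add_neg, D.z_add, ← mul_assoc, ← ha, D.z_neg, mul_inv_cancel]

/-- The group of all `z a`. -/
def Zg : Subgroup Γ where
  carrier := Set.range D.z
  one_mem' := ⟨0, D.z_zero⟩
  mul_mem' := by
    rintro _ _ ⟨a, rfl⟩ ⟨b, rfl⟩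
    exact ⟨a + b, D.z_add a b⟩
  inv_mem' := by
    rintro _ ⟨a, rfl⟩
    exact ⟨-a, D.z_neg a⟩

/-- The group of all `X v * z a`. -/
def Qg : Subgroup Γ where
  carrier := {g | ∃ v a, g = D.X v * D.z a}
  one_mem' := by
    obtain ⟨a, ha⟩ := D.exists_X_zero
    exact ⟨0, -a, by rw [ha, D.z_neg, mul_inv_cancel]⟩
  mul_mem' := by
    rintro _ _ ⟨v, a, rfl⟩ ⟨w, b, rfl⟩
    obtain ⟨c, hc⟩ := D.X_add v w
    refine ⟨v + w, -c + (a + b), ?_⟩
    rw [hc, D.z_add, D.z_add, D.z_neg, mul_assoc (D.X v * D.X w), ← mul_assoc (D.z c), mul_inv_cancel, one_mul,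
      mul_assoc (D.X v) (D.z a), ← mul_assoc (D.z a), ← D.X_z, mul_assoc, mul_assoc]
  inv_mem' := by
    rintro _ ⟨v, a, rfl⟩
    obtain ⟨b, hb⟩ := D.exists_X_neg v
    refine ⟨-v, b - a, ?_⟩
    rw [mul_inv_rev, hb, ← D.z_neg, ← mul_assoc, ← D.X_z, mul_assoc, ← D.z_add]
    congr 2
    abel

theorem z_mem_Qg (a : A) : D.z a ∈ D.Qg := by
  obtain ⟨b, hb⟩ := D.exists_X_zero
  exact ⟨0, -b + a, by rw [hb, D.z_add, D.z_neg, mul_inv_cancel_left]⟩

theorem X_mem_Qg (v : V) : D.X v ∈ D.Qg := ⟨v, 0, by rw [D.z_zero, mul_one]⟩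

theorem eq_of_mul_eq [Nontrivial A] {v w : V} {a b : A} (h : D.X v * D.z a = D.X w * D.z b) : v = w ∧ a = b := by
  have h1 : v = w := by
    obtain ⟨c, hc⟩ := D.X_add (v - w) w
    rw [sub_add_cancel] at hc
    rw [← sub_eq_zero]
    have h2 : D.X (v - w) = D.z (-c + (-a + b)) := by
      have h3 : D.X (v - w) = D.X v * (D.z c)⁻¹ * (D.X w)⁻¹ := by
        rw [hc]
        group
      have h4 : D.X v = D.X w * D.z b * (D.z a)⁻¹ := by rw [← h]; group
      rw [h3, h4, ← D.z_neg, ← D.z_neg, mul_assoc (D.X w), ← D.z_add, mul_assoc (D.X w), ← D.z_add, D.X_z,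
        mul_inv_cancel_right]
      congr 1
      abel
    exact D.uniq _ _ h2
  subst h1
  refine ⟨rfl, ?_⟩
  have h2 := mul_left_cancel h
  have h3 : D.z (a - b) = 1 := by rw [sub_eq_add_neg, D.z_add, D.z_neg, h2, mul_inv_cancel]
  exact sub_eq_zero.1 (D.z_inj _ h3)

theorem card_Qg [Nontrivial A] : Nat.card D.Qg = Nat.card V * Nat.card A := by
  rw [← Nat.card_prod]
  symm
  refine Nat.card_congr (Equiv.ofBijective (fun p : V × A => (⟨D.X p.1 * D.z p.2, p.1, p.2, rfl⟩ : D.Qg)) ⟨?_, ?_⟩)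
  · rintro ⟨v, a⟩ ⟨w, b⟩ h
    obtain ⟨h1, h2⟩ := D.eq_of_mul_eq (congrArg Subtype.val h)
    exact Prod.ext h1 h2
  · rintro ⟨_, v, a, rfl⟩
    exact ⟨(v, a), rfl⟩

theorem card_Zg : Nat.card D.Zg = Nat.card A := by
  symm
  refine Nat.card_congr (Equiv.ofBijective (fun a : A => (⟨D.z a, a, rfl⟩ : D.Zg)) ⟨?_, ?_⟩)
  · intro a b h
    have h1 : D.z a = D.z b := congrArg Subtype.val h
    have h3 : D.z (a - b) = 1 := by rw [sub_eq_add_neg, D.z_add, D.z_neg, h1, mul_inv_cancel]
    exact sub_eq_zero.1 (D.z_inj _ h3)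
  · rintro ⟨_, a, rfl⟩
    exact ⟨a, rfl⟩

theorem Zg_le_Qg : D.Zg ≤ D.Qg := by
  rintro _ ⟨a, rfl⟩
  exact D.z_mem_Qg a

theorem central {g : Γ} (hg : g ∈ D.Qg) (a : A) : g * D.z a = D.z a * g := by
  obtain ⟨v, b, rfl⟩ := hg
  rw [mul_assoc, D.z_comm, ← mul_assoc, D.X_z, mul_assoc]

/-- `Z` as a subgroup of `Q`. -/
abbrev ZZ : Subgroup D.Qg := D.Zg.subgroupOf D.Qg

theorem card_ZZ : Nat.card D.ZZ = Nat.card A := by
  rw [Nat.card_congr (Subgroup.subgroupOfEquivOfLe D.Zg_le_Qg).toEquiv, card_Zg]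

theorem comm_eq (v w : V) (a b : A) :
    (D.X v * D.z a) * (D.X w * D.z b) * (D.X v * D.z a)⁻¹ * (D.X w * D.z b)⁻¹ = D.z (D.om v w) := by
  have h1 : (D.X v * D.z a) * (D.X w * D.z b) = D.X v * D.X w * (D.z a * D.z b) := by
    rw [mul_assoc, ← mul_assoc (D.z a), ← D.X_z, mul_assoc, mul_assoc]
  have h2 : (D.X w * D.z b) * (D.X v * D.z a) = D.X w * D.X v * (D.z a * D.z b) := by
    rw [mul_assoc, ← mul_assoc (D.z b), ← D.X_z, D.z_comm a b, mul_assoc, mul_assoc]
  rw [mul_assoc _ (D.X v * D.z a)⁻¹, ← mul_inv_rev, h1, h2, D.comm, mul_inv_eq_iff_eq_mul]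
  have h3 : D.X w * D.X v ∈ D.Qg := mul_mem (D.X_mem_Qg w) (D.X_mem_Qg v)
  rw [D.central h3, mul_assoc]

theorem hyp : Hyp D.ZZ (⊤ : Subgroup D.Qg) where
  le := le_top
  central := by
    rintro z ⟨a, ha⟩ g
    apply Subtype.ext
    show (g : Γ) * (z : Γ) = (z : Γ) * (g : Γ)
    have ha' : D.z a = (z : Γ) := ha
    rw [← ha']
    exact D.central g.2 a
  comm_mem := by
    rintro ⟨x, v, a, hx⟩ - ⟨y, w, b, hy⟩ -
    refine ⟨D.om v w, ?_⟩
    show D.z (D.om v w) = x * y * x⁻¹ * y⁻¹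
    rw [hx, hy, D.comm_eq]
  special := by
    rintro ⟨x, v, a, hx⟩ - hxZ z ⟨b, hz⟩
    have hz' : D.z b = (z : Γ) := hz
    have hv : v ≠ 0 := by
      rintro rfl
      apply hxZ
      obtain ⟨c, hc⟩ := D.exists_X_zero
      exact ⟨c + a, by rw [D.z_add, ← hc]; exact hx.symm⟩
    obtain ⟨w, hw⟩ := D.special v hv b
    refine ⟨⟨D.X w, D.X_mem_Qg w⟩, trivial, ?_⟩
    apply Subtype.ext
    show x * D.X w * x⁻¹ * (D.X w)⁻¹ = (z : Γ)
    have h1 := D.comm_eq v w a 0
    rw [D.z_zero, mul_one, hw] at h1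
    rw [hx, h1, hz']

/-- **Index bound.** -/
theorem index_sq [Finite Γ] {T : Type*} [Group T] [Finite T] [IsSimpleGroup T]
    (π : Γ →* T) {H : Subgroup T} (hH : H ≠ ⊤)
    (hconj : ∀ a b, a ≠ 0 → b ≠ 0 → IsConj (D.z a) (D.z b)) {a0 : A} (ha0 : π (D.z a0) ≠ 1) :
    Nat.card A * (Nat.card V * Nat.card A) ≤ H.index ^ 2 := by
  have ha1 : a0 ≠ 0 := by
    rintro rfl
    exact ha0 (by rw [D.z_zero, map_one])
  have : Nontrivial A := ⟨a0, 0, ha1⟩
  have hc : ∀ a, a ≠ 0 → fx (Cos π H) (D.z a) = fx (Cos π H) (D.z a0) := fun a ha =>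
    fx_of_isConj (hconj a a0 ha ha1)
  have hlt : fx (Cos π H) (D.z a0) < H.index := by
    rw [← card_cos π H]
    exact fx_lt (exists_moved π hH ha0)
  have hz1 : D.z a0 ≠ 1 := fun h => ha0 (by rw [h, map_one])
  obtain ⟨lam, hl⟩ := D.hyp.exists_char (t := ⟨D.z a0, D.z_mem_Qg a0⟩) ⟨a0, rfl⟩
    fun h => hz1 (congrArg Subtype.val h)
  have h1 := sq_le (Ω := Cos (π.comp D.Qg.subtype) H) D.hyp hl (fx (Cos π H) (D.z a0)) (fun z hz hz1 => by
      obtain ⟨a, ha⟩ := hz
      have ha' : D.z a = (z : Γ) := ha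
      have ha2 : a ≠ 0 := by
        rintro rfl
        exact hz1 (Subtype.ext (by rw [← ha', D.z_zero]; rfl))
      rw [← hc a ha2, ha']
      rfl) hlt
  rw [Subgroup.card_top, card_Qg, card_ZZ] at h1
  exact h1.trans (Nat.pow_le_pow_left (Nat.sub_le _ _) 2)

end SD

/-- Root elements of a special group; the coordinates lie in groups that may depend on the root. -/
structure Sp (Γ : Type*) [Group Γ] {ι : Type*} [Fintype ι] [DecidableEq ι] (V : ι → Type*)
    [∀ i, AddCommGroup (V i)] (A : Type*) [AddCommGroup A] where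
  x : ∀ i, V i → Γ
  z : A → Γ
  x_add : ∀ i s t, x i (s + t) = x i s * x i t
  z_add : ∀ s t, z (s + t) = z s * z t
  z_inj : ∀ a, z a = 1 → a = 0
  x_z : ∀ i t a, x i t * z a = z a * x i t
  b : ∀ i j, V i → V j → A
  b_add_left : ∀ i j s s' t, b i j (s + s') t = b i j s t + b i j s' t
  b_add_right : ∀ i j s t t', b i j s (t + t') = b i j s t + b i j s t'
  x_comm : ∀ i j s t, x i s * x j t = x j t * x i s * z (b i j s t)
  opp : ι → ι
  b_opp : ∀ i s, s ≠ 0 → ∀ a, ∃ t, b i (opp i) s t = a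
  b_zero : ∀ i k, k ≠ i → ∀ s t, b k (opp i) s t = 0

namespace Sp

variable {Γ ι : Type*} [Group Γ] [Fintype ι] [DecidableEq ι] {V : ι → Type*} [∀ i, AddCommGroup (V i)]
  {A : Type*} [AddCommGroup A] (R : Sp Γ V A)

theorem x_zero (i : ι) : R.x i 0 = 1 := by
  have h := R.x_add i 0 0
  rw [add_zero] at h
  exact mul_right_cancel (b := R.x i 0) (by rw [← h, one_mul])

theorem z_zero : R.z 0 = 1 := by
  have h := R.z_add 0 0
  rw [add_zero] at h
  exact mul_right_cancel (b := R.z 0) (by rw [← h, one_mul])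

theorem b_zero_left (i j : ι) (t : V j) : R.b i j 0 t = 0 := by
  have h := R.b_add_left i j 0 0 t
  rw [add_zero] at h
  exact left_eq_add.1 h

theorem b_zero_right (i j : ι) (s : V i) : R.b i j s 0 = 0 := by
  have h := R.b_add_right i j s 0 0
  rw [add_zero] at h
  exact left_eq_add.1 h

/-- Product over a list. -/
def P (l : List ι) (v : ∀ i, V i) : Γ := (l.map fun i => R.x i (v i)).prod

theorem P_nil (v : ∀ i, V i) : R.P [] v = 1 := rfl

theorem P_cons (i : ι) (l : List ι) (v : ∀ i, V i) : R.P (i :: l) v = R.x i (v i) * R.P l v := by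
  simp [P]

theorem P_z (l : List ι) (v : ∀ i, V i) (a : A) : R.P l v * R.z a = R.z a * R.P l v := by
  induction l with
  | nil => simp [P_nil]
  | cons i l ih => rw [P_cons, mul_assoc, ih, ← mul_assoc, R.x_z, mul_assoc]

theorem x_P_comm (i : ι) (t : V i) (l : List ι) (v : ∀ i, V i) :
    ∃ a, R.x i t * R.P l v = R.P l v * R.x i t * R.z a := by
  induction l with
  | nil => exact ⟨0, by rw [P_nil, R.z_zero, mul_one, one_mul, mul_one]⟩
  | cons j l ih =>
    obtain ⟨a, ha⟩ := ih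
    refine ⟨R.b i j t (v j) + a, ?_⟩
    rw [P_cons, ← mul_assoc, R.x_comm i j t (v j), mul_assoc (R.x j (v j) * R.x i t), ← R.P_z, ← mul_assoc,
      mul_assoc (R.x j (v j)), ha, R.z_add, ← mul_assoc, ← mul_assoc, mul_assoc _ (R.z a), ← R.z_add, add_comm a,
      R.z_add, ← mul_assoc]

theorem P_add (l : List ι) (v w : ∀ i, V i) : ∃ a, R.P l (v + w) = R.P l v * R.P l w * R.z a := by
  induction l with
  | nil => exact ⟨0, by rw [P_nil, P_nil, P_nil, R.z_zero, one_mul, one_mul]⟩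
  | cons i l ih =>
    obtain ⟨a, ha⟩ := ih
    obtain ⟨b, hb⟩ := R.x_P_comm i (w i) l v
    refine ⟨b + a, ?_⟩
    have h1 : R.x i (w i) * R.P l v * (R.P l w * R.z a) = R.P l v * (R.x i (w i) * R.P l w) * R.z (b + a) := by
      rw [hb, R.z_add, mul_assoc (R.P l v * R.x i (w i)), ← mul_assoc (R.z b), ← R.P_z l w b]
      simp only [mul_assoc]
    rw [P_cons, P_cons, P_cons, Pi.add_apply, R.x_add, ha]
    calc R.x i (v i) * R.x i (w i) * (R.P l v * R.P l w * R.z a)
        = R.x i (v i) * (R.x i (w i) * R.P l v * (R.P l w * R.z a)) := by simp only [mul_assoc]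
      _ = _ := by rw [h1]; simp only [mul_assoc]

theorem P_single_not_mem {i : ι} {l : List ι} (h : i ∉ l) (t : V i) : R.P l (Pi.single i t) = 1 := by
  induction l with
  | nil => rfl
  | cons j l ih =>
    rw [List.mem_cons, not_or] at h
    rw [P_cons, Pi.single_eq_of_ne (Ne.symm h.1), R.x_zero, one_mul, ih h.2]

theorem P_single {i : ι} {l : List ι} (hl : l.Nodup) (h : i ∈ l) (t : V i) : R.P l (Pi.single i t) = R.x i t := by
  induction l with
  | nil => simp at h
  | cons j l ih =>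
    rw [List.nodup_cons] at hl
    rw [P_cons]
    rcases eq_or_ne i j with rfl | hij
    · rw [Pi.single_eq_same, R.P_single_not_mem hl.1, mul_one]
    · rw [Pi.single_eq_of_ne (Ne.symm hij), R.x_zero, one_mul]
      exact ih hl.2 (List.mem_of_ne_of_mem hij h)

/-- The element of the special group with given coordinates. -/
noncomputable def X (v : ∀ i, V i) : Γ := R.P (Finset.univ : Finset ι).toList v

theorem X_add (v w : ∀ i, V i) : ∃ a, R.X (v + w) = R.X v * R.X w * R.z a := R.P_add _ v w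

theorem X_z (v : ∀ i, V i) (a : A) : R.X v * R.z a = R.z a * R.X v := R.P_z _ v a

theorem X_single (i : ι) (t : V i) : R.X (Pi.single i t) = R.x i t :=
  R.P_single (Finset.nodup_toList _) (Finset.mem_toList.2 (Finset.mem_univ i)) t

theorem X_zero : R.X 0 = 1 := by
  unfold X
  generalize (Finset.univ : Finset ι).toList = l
  induction l with
  | nil => rfl
  | cons i l ih => rw [P_cons, ih, Pi.zero_apply, R.x_zero, one_mul]

/-- Additive properties hold everywhere as soon as they hold for the vectors with one non-zero coordinate. -/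
theorem pi_induction {p : (∀ i, V i) → Prop} (h0 : p 0) (hadd : ∀ v w, p v → p w → p (v + w))
    (hs : ∀ i t, p (Pi.single i t)) (v : ∀ i, V i) : p v := by
  rw [← Finset.univ_sum_single v]
  exact Finset.sum_induction _ p hadd h0 fun i _ => hs i (v i)

/-- The commutator form. -/
def om (v w : ∀ i, V i) : A := ∑ i, ∑ j, R.b i j (v i) (w j)

theorem om_add_left (v v' w : ∀ i, V i) : R.om (v + v') w = R.om v w + R.om v' w := by
  unfold om
  rw [← Finset.sum_add_distrib]
  refine Finset.sum_congr rfl fun i _ => ?_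
  rw [← Finset.sum_add_distrib]
  refine Finset.sum_congr rfl fun j _ => ?_
  rw [Pi.add_apply, R.b_add_left]

theorem om_add_right (v w w' : ∀ i, V i) : R.om v (w + w') = R.om v w + R.om v w' := by
  unfold om
  rw [← Finset.sum_add_distrib]
  refine Finset.sum_congr rfl fun i _ => ?_
  rw [← Finset.sum_add_distrib]
  refine Finset.sum_congr rfl fun j _ => ?_
  rw [Pi.add_apply, R.b_add_right]

theorem om_zero_left (w : ∀ i, V i) : R.om 0 w = 0 := by
  unfold om
  exact Finset.sum_eq_zero fun i _ => Finset.sum_eq_zero fun j _ => R.b_zero_left i j _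

theorem om_zero_right (v : ∀ i, V i) : R.om v 0 = 0 := by
  unfold om
  exact Finset.sum_eq_zero fun i _ => Finset.sum_eq_zero fun j _ => R.b_zero_right i j _

theorem om_single_right (v : ∀ i, V i) (j : ι) (t : V j) : R.om v (Pi.single j t) = ∑ i, R.b i j (v i) t := by
  unfold om
  refine Finset.sum_congr rfl fun i _ => ?_
  rw [Finset.sum_eq_single j (fun k _ hk => by rw [Pi.single_eq_of_ne hk, R.b_zero_right])
    (fun h => absurd (Finset.mem_univ j) h), Pi.single_eq_same]

theorem om_single (i j : ι) (s : V i) (t : V j) : R.om (Pi.single i s) (Pi.single j t) = R.b i j s t := by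
  rw [om_single_right, Finset.sum_eq_single i (fun k _ hk => by rw [Pi.single_eq_of_ne hk, R.b_zero_left])
    (fun h => absurd (Finset.mem_univ i) h), Pi.single_eq_same]

theorem comm (v w : ∀ i, V i) : R.X v * R.X w = R.X w * R.X v * R.z (R.om v w) := by
  have hz : ∀ a b, R.z a * R.z b = R.z b * R.z a := fun a b => by rw [← R.z_add, ← R.z_add, add_comm]
  revert w
  refine pi_induction (p := fun v => ∀ w, R.X v * R.X w = R.X w * R.X v * R.z (R.om v w)) ?_ ?_ ?_ v
  · intro w
    rw [X_zero, om_zero_left, R.z_zero, one_mul, mul_one, mul_one]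
  · intro v v' hv hv' w
    obtain ⟨a, ha⟩ := R.X_add v v'
    have h1 := hv w
    have h2 := hv' w
    rw [om_add_left, ha, R.z_add]
    calc R.X v * R.X v' * R.z a * R.X w = R.X v * R.X v' * (R.z a * R.X w) := by simp only [mul_assoc]
      _ = R.X v * (R.X v' * R.X w) * R.z a := by rw [← R.X_z]; simp only [mul_assoc]
      _ = (R.X v * R.X w) * R.X v' * R.z (R.om v' w) * R.z a := by rw [h2]; simp only [mul_assoc]
      _ = R.X w * R.X v * (R.z (R.om v w) * R.X v') * R.z (R.om v' w) * R.z a := by rw [h1]; simp only [mul_assoc]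
      _ = R.X w * (R.X v * R.X v') * (R.z (R.om v w) * R.z (R.om v' w)) * R.z a := by
        rw [← R.X_z]; simp only [mul_assoc]
      _ = R.X w * (R.X v * R.X v') * (R.z a * (R.z (R.om v w) * R.z (R.om v' w))) := by
        rw [← R.z_add (R.om v w), mul_assoc, hz]
      _ = _ := by simp only [mul_assoc]
  · intro i s w
    refine pi_induction (p := fun w => R.X (Pi.single i s) * R.X w = R.X w * R.X (Pi.single i s) *
      R.z (R.om (Pi.single i s) w)) ?_ ?_ ?_ w
    · rw [X_zero, om_zero_right, R.z_zero, one_mul, mul_one]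
    · intro w w' h1 h2
      obtain ⟨a, ha⟩ := R.X_add w w'
      rw [om_add_right, ha, R.z_add]
      set x := R.X (Pi.single i s) with hx
      calc x * (R.X w * R.X w' * R.z a) = (x * R.X w) * R.X w' * R.z a := by simp only [mul_assoc]
        _ = R.X w * x * (R.z (R.om (Pi.single i s) w) * R.X w') * R.z a := by rw [h1]; simp only [mul_assoc]
        _ = R.X w * (x * R.X w') * R.z (R.om (Pi.single i s) w) * R.z a := by
          rw [← R.X_z]; simp only [mul_assoc]
        _ = R.X w * R.X w' * x * R.z (R.om (Pi.single i s) w') * R.z (R.om (Pi.single i s) w) * R.z a := by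
          rw [h2]; simp only [mul_assoc]
        _ = R.X w * R.X w' * (x * R.z a) * (R.z (R.om (Pi.single i s) w) * R.z (R.om (Pi.single i s) w')) := by
          have h3 : R.z (R.om (Pi.single i s) w') * (R.z (R.om (Pi.single i s) w) * R.z a) =
              R.z a * (R.z (R.om (Pi.single i s) w) * R.z (R.om (Pi.single i s) w')) := by
            rw [← R.z_add, ← R.z_add, ← R.z_add, ← R.z_add]
            congr 1
            abel
          simp only [mul_assoc]
          rw [h3]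
        _ = _ := by
          rw [hx, R.X_z]; simp only [mul_assoc]
    · intro j t
      rw [X_single, X_single, om_single]
      exact R.x_comm i j s t

theorem special {v : ∀ i, V i} (hv : v ≠ 0) (a : A) : ∃ w, R.om v w = a := by
  obtain ⟨i, hi⟩ := Function.ne_iff.1 hv
  have hi' : v i ≠ 0 := hi
  obtain ⟨t, ht⟩ := R.b_opp i (v i) hi' a
  refine ⟨Pi.single (R.opp i) t, ?_⟩
  rw [om_single_right, Finset.sum_eq_single i (fun k _ hk => R.b_zero i k hk _ _)
    (fun h => absurd (Finset.mem_univ i) h), ht]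

/-- The coordinates. -/
noncomputable def toSD : SD Γ (∀ i, V i) A where
  X := R.X
  z := R.z
  om := R.om
  z_add := R.z_add
  z_inj := R.z_inj
  X_add := R.X_add
  X_z := R.X_z
  comm := R.comm
  special := fun _ hv a => R.special hv a

/-- **Index bound.** -/
theorem index_sq [Finite Γ] {T : Type*} [Group T] [Finite T] [IsSimpleGroup T]
    (π : Γ →* T) {H : Subgroup T} (hH : H ≠ ⊤)
    (hconj : ∀ a b, a ≠ 0 → b ≠ 0 → IsConj (R.z a) (R.z b)) {a0 : A} (ha0 : π (R.z a0) ≠ 1) :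
    Nat.card A * ((∏ i, Nat.card (V i)) * Nat.card A) ≤ H.index ^ 2 := by
  rw [← Nat.card_pi]
  exact R.toSD.index_sq π hH hconj ha0

end Sp

end Cfsg.Agent.H599.Spec
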