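import Mathlib
import Cfsg.Agent.H934.HeisChev
import Cfsg.Agent.H599.Spec
import Cfsg.Agent.H599.RowsA
import Cfsg.Agent.S1059
import Cfsg.Agent.S2121

/-!
# The special group of the highest root of `G₂(q)`

`STab`: a table of roots `r` with `(r, θ) = 1`, the commutators may have coefficients different from `± 1`.
Proper subgroups of `G₂(q)` have index at least `q²`, and at least `q³` if `3 ∤ q`. `IdxOK` for `G₂(q)`.
-/

set_option autoImplicit false

namespace Cfsg.Agent.H599.IdxG2

open Cfsg.Lie Cfsg.Agent.ChevalleyStructure.Elts Cfsg.Agent.H934.HeisChev Cfsg.Agent.H599.Spec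
  Cfsg.Agent.H539 Cfsg.Agent.H599.IdxE Cfsg.Agent.H599.IdxJor

universe u

/-- Tables. -/
structure STab (n : ℕ) where
  S : Fin n → ℕ
  th : ℕ
  opp : Fin n → Fin n
  e : Fin n → ℤ
  p : ℕ

variable {n : ℕ}

/-- Correctness of the tables. -/
structure STab.Ok (T : STab n) (D : ChevalleyDatum) : Prop where
  S_lt : ∀ i, T.S i < D.nroots
  th_lt : T.th < D.nroots
  th_ne : ∀ i, T.th ≠ T.S i ∧ T.th ≠ D.neg (T.S i) ∧ D.commTerms (T.S i) T.th = []
  S_ne : ∀ i j, i ≠ j → T.S i ≠ T.S j ∧ T.S i ≠ D.neg (T.S j) ∧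
    D.commTerms (T.S j) (T.S i) = if j = T.opp i then [(T.th, T.e i, 1, 1)] else []
  opp_ne : ∀ i, T.opp i ≠ i
  opp_opp : ∀ i, T.opp (T.opp i) = i
  p_lt : T.p < D.rank
  p_th : D.cartan T.p T.th = 1

variable {D : ChevalleyDatum} (hD : InList D) {F : Type u} [Field F]

/-- The root elements. -/
noncomputable def STab.sp (T : STab n) (ok : T.Ok D) (F : Type u) [Field F] (he : ∀ i, (T.e i : F) ≠ 0) :
    Sp ↥(D.group F) (fun _ : Fin n => F) F where
  x := fun i => xe hD (T.S i)
  z := xe hD T.th
  x_add := fun i s t => xe_add hD _ s t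
  z_add := fun s t => xe_add hD _ s t
  z_inj := fun a h => xe_eq_one hD ok.th_lt h
  x_z := fun i t a => (comm_nil hD (ok.S_lt i) ok.th_lt (ok.th_ne i).1 (ok.th_ne i).2.1 (ok.th_ne i).2.2 t a).symm
  b := fun i j s t => (if j = T.opp i then -(T.e i : F) else 0) * s * t
  b_add_left := fun i j s s' t => by ring
  b_add_right := fun i j s t t' => by ring
  x_comm := by
    intro i j s t
    rcases eq_or_ne i j with rfl | hij
    · rw [if_neg (ok.opp_ne i).symm, zero_mul, zero_mul, xe_zero, mul_one, ← xe_add, ← xe_add, add_comm]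
    · obtain ⟨h1, h2, h3⟩ := ok.S_ne i j hij
      split_ifs with h
      · rw [if_pos h] at h3
        rw [comm_single hD (ok.S_lt j) (ok.S_lt i) h1 h2 h3 t s]
        congr 2
        ring
      · rw [if_neg h] at h3
        rw [comm_nil hD (ok.S_lt j) (ok.S_lt i) h1 h2 h3 t s, zero_mul, zero_mul, xe_zero, mul_one]
  opp := T.opp
  b_opp := fun i s hs a => by
    refine ⟨a / (-(T.e i : F) * s), ?_⟩
    rw [if_pos rfl]
    exact mul_div_cancel₀ a (mul_ne_zero (neg_ne_zero.2 (he i)) hs)
  b_zero := fun i k hk s t => by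
    rw [if_neg, zero_mul, zero_mul]
    intro h
    apply hk
    rw [← ok.opp_opp k, ← h, ok.opp_opp]

include hD in
theorem isConj_th (T : STab n) (ok : T.Ok D) (a b : F) (ha : a ≠ 0) (hb : b ≠ 0) :
    IsConj (xe hD T.th a) (xe hD T.th b) := by
  have h1 := Cfsg.Agent.S1032.result (F := F) D hD T.p T.th ok.p_lt ok.th_lt (b / a) (div_ne_zero hb ha) a
  rw [ok.p_th, zpow_one, div_mul_cancel₀ _ ha] at h1
  rw [isConj_iff]
  refine ⟨⟨hG hD (D.simple T.p) (b / a), hG_mem_group hD _ _⟩, ?_⟩
  rw [mul_inv_eq_iff_eq_mul]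
  apply Subtype.ext
  apply Units.ext
  show (hG hD (D.simple T.p) (b / a) * xG hD T.th a : GL D.Idx F).val =
    (xG hD T.th b * hG hD (D.simple T.p) (b / a) : GL D.Idx F).val
  rw [Units.val_mul, Units.val_mul, coe_hG]
  exact h1

include hD in
/-- **The bound.** -/
theorem bound [Fintype F] (T : STab n) (ok : T.Ok D) (he : ∀ i, (T.e i : F) ≠ 0) {X : Type*} [Group X] [Finite X]
    [IsSimpleGroup X] (π : ↥(D.group F) →* X) (hπ : Function.Injective π) {H : Subgroup X} (hH : H ≠ ⊤) :
    Fintype.card F ^ (n + 2) ≤ H.index ^ 2 := by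
  have : Finite (GL D.Idx F) := inferInstance
  have h := (T.sp hD ok F he).index_sq π hH (a0 := 1) (fun a b ha hb => isConj_th hD T ok a b ha hb)
    (fun h => by
      have h1 : xe hD T.th (1 : F) = 1 := hπ (by rw [map_one]; exact h)
      exact one_ne_zero (xe_eq_one hD ok.th_lt h1))
  refine le_trans (le_of_eq ?_) h
  rw [Finset.prod_const, Finset.card_univ, Fintype.card_fin, Nat.card_eq_fintype_card]
  ring

/-! ### `G₂` -/

/-- long roots -/
def tabL : STab 2 where
  S := ![6, 10]
  th := 11
  opp := ![1, 0]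
  e := ![-1, 1]
  p := 1

/-- all roots -/
def tabA : STab 4 where
  S := ![6, 8, 9, 10]
  th := 11
  opp := ![3, 2, 1, 0]
  e := ![-1, -3, 3, 1]
  p := 1

theorem tabL_ok : tabL.Ok chevG2 where
  S_lt := by decide +kernel
  th_lt := by decide +kernel
  th_ne := by decide +kernel
  S_ne := by decide +kernel
  opp_ne := by decide +kernel
  opp_opp := by decide +kernel
  p_lt := by decide +kernel
  p_th := by decide +kernel

theorem tabA_ok : tabA.Ok chevG2 where
  S_lt := by decide +kernel
  th_lt := by decide +kernel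
  th_ne := by decide +kernel
  S_ne := by decide +kernel
  opp_ne := by decide +kernel
  opp_opp := by decide +kernel
  p_lt := by decide +kernel
  p_th := by decide +kernel

theorem hDG : InList chevG2 := by simp [InList]

variable [Fintype F]

theorem sq_le (hs : IsSimpleGroup ↥(chevG2.group F)) (H : Subgroup ↥(chevG2.group F)) (hH : H ≠ ⊤) :
    Fintype.card F ^ 2 ≤ H.index := by
  have : Finite (GL chevG2.Idx F) := inferInstance
  have h := bound (F := F) hDG tabL tabL_ok (fun i => by fin_cases i <;> simp [tabL])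
    (MonoidHom.id ↥(chevG2.group F)) Function.injective_id hH
  rw [show Fintype.card F ^ (2 + 2) = (Fintype.card F ^ 2) ^ 2 by ring] at h
  exact (Nat.pow_le_pow_iff_left (by norm_num)).1 h

theorem cube_le (h3 : (3 : F) ≠ 0) (hs : IsSimpleGroup ↥(chevG2.group F)) (H : Subgroup ↥(chevG2.group F))
    (hH : H ≠ ⊤) : Fintype.card F ^ 3 ≤ H.index := by
  have : Finite (GL chevG2.Idx F) := inferInstance
  have h := bound (F := F) hDG tabA tabA_ok (fun i => by fin_cases i <;> simp [tabA, h3])
    (MonoidHom.id ↥(chevG2.group F)) Function.injective_id hH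
  rw [show Fintype.card F ^ (4 + 2) = (Fintype.card F ^ 3) ^ 2 by ring] at h
  exact (Nat.pow_le_pow_iff_left (by norm_num)).1 h

theorem card_le : Nat.card ↥(chevG2.group F) ≤ Fintype.card F ^ 14 := by
  calc Nat.card ↥(chevG2.group F) = _ := S1059.result (F := F) rfl
    _ ≤ Fintype.card F ^ 6 * Fintype.card F ^ 2 * Fintype.card F ^ 6 := by gcongr <;> exact Nat.sub_le _ _
    _ = Fintype.card F ^ 14 := by ring

theorem g2 (h3 : 3 ≤ Fintype.card F) (hs : IsSimpleGroup ↥(chevG2.group F))
    (hna : ¬ IsMulCommutative ↥(chevG2.group F)) : IdxOK ↥(chevG2.group F) := by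
  have : Finite (GL chevG2.Idx F) := inferInstance
  obtain ⟨p, f, hp, hc, hf, hF⟩ := exists_char F
  have : Fact p.Prime := ⟨hp⟩
  have hout := S2121.result p f hF (by rw [← hF]; exact h3)
  have ht := card_le (F := F)
  by_cases hp3 : p = 3
  · subst hp3
    rw [if_pos rfl] at hout
    rcases Nat.lt_or_ge f 3 with hf3 | hf3
    · rcases (show f = 1 ∨ f = 2 by omega) with rfl | rfl
      · -- `G₂(3)`
        have hcard : Nat.card ↥(chevG2.group F) = 4245696 := (S1059.result (F := F) hF).trans (by norm_num)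
        exact IdxOK.of_bound hna hout.le hcard.le (b := 26) (by norm_num)
          (le_index_of_check hna hcard (P := [13]) (by norm_num) t2) (by norm_num)
      · -- `G₂(9)`
        rw [hF] at ht
        refine IdxOK.of_card hout.le ht (b := 81) (fun K hK => ?_) (by norm_num)
        have := sq_le hs K hK
        rw [hF] at this
        exact le_trans (by norm_num) this
    · refine of_pow (q := Fintype.card F) (N := 16) (b := Fintype.card F ^ 2) (by omega) ?_ (sq_le hs) ?_
      · have h2 : 2 * f ≤ Fintype.card F ^ 2 := by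
          have h4 : f ≤ Fintype.card F := hF ▸ le_pow hp
          nlinarith
        calc _ ≤ Fintype.card F ^ 2 * Fintype.card F ^ 14 := Nat.mul_le_mul (hout.le.trans h2) ht
          _ = _ := by ring
      · have h4 : 27 ≤ Fintype.card F := by
          rw [hF]
          calc 27 = 3 ^ 3 := by norm_num
            _ ≤ 3 ^ f := Nat.pow_le_pow_right (by norm_num) hf3
        have h5 : 27 * Fintype.card F ≤ Fintype.card F ^ 2 := by rw [sq]; exact Nat.mul_le_mul_right _ h4
        omega
  · rw [if_neg hp3] at hout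
    have h30 : (3 : F) ≠ 0 := by
      intro h0
      have h1 : ((3 : ℕ) : F) = 0 := by exact_mod_cast h0
      rw [CharP.cast_eq_zero_iff F p] at h1
      exact hp3 ((Nat.prime_dvd_prime_iff_eq hp Nat.prime_three).1 h1)
    have h4 : 4 ≤ Fintype.card F := by
      by_contra h4
      have h5 : Fintype.card F = 3 := by omega
      rw [hF] at h5
      have h6 : p ∣ 3 := by rw [← h5]; exact dvd_pow_self p (by omega)
      exact hp3 ((Nat.prime_dvd_prime_iff_eq hp Nat.prime_three).1 h6)
    refine of_pow (q := Fintype.card F) (N := 15) (b := Fintype.card F ^ 3) (by omega) ?_ (cube_le h30 hs) ?_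
    · have h5 : f ≤ Fintype.card F := hF ▸ le_pow hp
      calc _ ≤ Fintype.card F * Fintype.card F ^ 14 := Nat.mul_le_mul (hout.le.trans h5) ht
        _ = _ := by ring
    · have h5 : 16 * Fintype.card F ≤ Fintype.card F ^ 3 := by
        rw [pow_succ]
        exact Nat.mul_le_mul_right _ (Nat.pow_le_pow_left h4 2)
      omega

theorem row : RowOf (fun T _ => Cfsg.Lie.IsoChevG2 T) := by
  rintro T _ _ _ hT ⟨F, _, _, h3, ⟨e⟩⟩
  exact RowsA.of_equiv hT e fun h h' => g2 h3 h h'

end Cfsg.Agent.H599.IdxG2
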