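import Mathlib
import Cfsg.Prelude.Def_Characters
import Cfsg.Prelude.Def_Local
import Cfsg.Prelude.Def_Solvable
import Cfsg.Agent.CharactersDeep.NormalSylow
import Cfsg.Agent.Lib.PSolvable
import Cfsg.Agent.PLocal.PSolvable
import Cfsg.Agent.Lib.PGroupCoprimeAction
import Cfsg.Agent.Characters.DegreeBounds

/-!
# `p`-solvable linear groups of degree at most `p - 1` (Itô)
-/

set_option autoImplicit false

namespace Cfsg.Agent.H599.Ito

open Module Cfsg Cfsg.Agent.Characters.Core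

/-- A representation whose restriction along a homomorphism is irreducible is irreducible. -/
theorem isIrreducible_of_comp {H G V : Type*} [Group H] [Group G] [AddCommGroup V] [Module ℂ V]
    (f : H →* G) (ρ : Representation ℂ G V)
    (h : (show Representation ℂ H V from ρ.comp f).IsIrreducible) : ρ.IsIrreducible := by
  set σ : Representation ℂ H V := ρ.comp f with hσ
  have hnt : Nontrivial (Subrepresentation ρ) := by
    refine ⟨⟨⊥, ⊤, fun h' => ?_⟩⟩
    have h1 : (⊥ : Submodule ℂ V) = ⊤ := congrArg Subrepresentation.toSubmodule h'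
    obtain ⟨a, b, hab⟩ := h.toNontrivial
    apply hab
    apply Subrepresentation.toSubmodule_injective
    have h2 : ∀ S : Submodule ℂ V, S = ⊥ := fun S => by
      rw [eq_bot_iff, h1]; exact le_top
    rw [h2 a.toSubmodule, h2 b.toSubmodule]
  refine { toNontrivial := hnt, eq_bot_or_eq_top := fun τ => ?_ }
  let τ' : Subrepresentation σ := ⟨τ.toSubmodule, fun g v hv => τ.apply_mem_toSubmodule (f g) hv⟩
  rcases h.eq_bot_or_eq_top τ' with h1 | h1
  · left
    apply Subrepresentation.toSubmodule_injective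
    have h2 : τ'.toSubmodule = (⊥ : Subrepresentation σ).toSubmodule := by rw [h1]
    exact h2
  · right
    apply Subrepresentation.toSubmodule_injective
    have h2 : τ'.toSubmodule = (⊤ : Subrepresentation σ).toSubmodule := by rw [h1]
    exact h2

/-- `H = M⟨x⟩` with `M` a normal `p'`-group, `x` a non-central `p`-element with `x ^ p` central,
`ρ` a faithful representation of degree `n ≤ p - 1`: then `n = p - 1` and `ρ` is irreducible. -/
theorem irr_of_small {H : Type*} [Group H] [Finite H] {n : ℕ}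
    (ρ : Representation ℂ H (Fin n → ℂ)) (hρ : Function.Injective ρ) {p : ℕ}
    [hp : Fact p.Prime] (hnp : n + 1 ≤ p) (M : Subgroup H) [M.Normal]
    (hM : (Nat.card M).Coprime p) (x : H) (k : ℕ) (hx : orderOf x = p ^ (k + 1))
    (htop : M ⊔ Subgroup.zpowers x = ⊤) (hxp : ∀ g, g * x ^ p = x ^ p * g)
    (hne : ∃ g, x * g ≠ g * x) : n + 1 = p ∧ ρ.IsIrreducible := by
  classical
  have : Fintype H := Fintype.ofFinite H
  obtain ⟨s, m, hs, hsum⟩ := Cfsg.Agent.CharactersDeep.SmallDegree.exists_mult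
    (isCharacter_of_rep ρ)
  have hn : ρ.character 1 = n := by rw [Representation.char_one]; simp
  have hdeg : ∀ ψ : H → ℂ, ∃ d : ℕ, ψ ∈ s → (0 < d ∧ ψ 1 = d) := by
    intro ψ
    by_cases h : ψ ∈ s
    · obtain ⟨d, hd⟩ := isIrr_apply_one (hs ψ h)
      exact ⟨d, fun _ => hd⟩
    · exact ⟨0, fun h' => absurd h' h⟩
  choose deg hdeg using hdeg
  have hnsum : n = ∑ ψ ∈ s, m ψ * deg ψ := by
    have h1 : (n : ℂ) = ((∑ ψ ∈ s, m ψ * deg ψ : ℕ) : ℂ) := by
      rw [← hn, hsum, Finset.sum_apply]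
      push_cast
      refine Finset.sum_congr rfl fun ψ hψ => ?_
      rw [Pi.smul_apply, (hdeg ψ hψ).2, nsmul_eq_mul]
    exact_mod_cast h1
  by_cases hall : ∀ ψ ∈ s, m ψ ≠ 0 → deg ψ + 1 < p
  · exfalso
    obtain ⟨g, hg⟩ := hne
    apply hg
    have h1 : ρ.character (x * g * x⁻¹ * g⁻¹) = ρ.character 1 := by
      rw [hsum, Finset.sum_apply, Finset.sum_apply]
      refine Finset.sum_congr rfl fun ψ hψ => ?_
      rw [Pi.smul_apply, Pi.smul_apply]
      by_cases hm : m ψ = 0
      · rw [hm, zero_smul, zero_smul]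
      · have h2 := Cfsg.Agent.CharactersDeep.SmallDegree.norm_eq_degree p M hM x k hx htop hxp ψ
          (hs ψ hψ) (deg ψ) (hdeg ψ hψ).2 (hall ψ hψ hm)
        rw [Cfsg.Agent.CharactersDeep.NormalSylow.apply_commutator_eq (hs ψ hψ) (hdeg ψ hψ).2 h2 g]
    rw [Representation.char_one] at h1
    have h2 := (Cfsg.Agent.Characters.Values.character_eq_finrank_iff ρ _).1 h1
    have h3 : x * g * x⁻¹ * g⁻¹ = 1 := hρ (by rw [h2, map_one]; rfl)
    rwa [mul_inv_eq_one, mul_inv_eq_iff_eq_mul] at h3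
  · push Not at hall
    obtain ⟨ψ, hψ, hm, hd⟩ := hall
    have h1 : m ψ * deg ψ + ∑ ψ' ∈ s.erase ψ, m ψ' * deg ψ' = n := by
      rw [hnsum, Finset.add_sum_erase s (fun ψ => m ψ * deg ψ) hψ]
    have h2 : deg ψ ≤ m ψ * deg ψ := Nat.le_mul_of_pos_left _ (Nat.pos_of_ne_zero hm)
    have h3 : m ψ * deg ψ = n := by omega
    have h4 : ∑ ψ' ∈ s.erase ψ, m ψ' * deg ψ' = 0 := by omega
    have h5 : deg ψ = n := by omega
    have h6 : m ψ = 1 := by
      rw [h5] at h3
      have hn0 : 0 < n := by have := (hdeg ψ hψ).1; omega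
      exact Nat.eq_of_mul_eq_mul_right hn0 (by rw [h3, one_mul])
    refine ⟨by omega, ?_⟩
    have h7 : ρ.character = ψ := by
      rw [hsum, ← Finset.add_sum_erase s _ hψ, h6, one_smul]
      rw [Finset.sum_eq_zero, add_zero]
      intro ψ' hψ'
      have h8 := (Finset.sum_eq_zero_iff.1 h4) ψ' hψ'
      have h9 := (hdeg ψ' (Finset.mem_of_mem_erase hψ')).1
      rcases Nat.mul_eq_zero.1 h8 with h | h
      · rw [h, zero_smul]
      · omega
    apply isIrreducible_of_isIrrCharacter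
    rw [h7]
    exact hs ψ hψ

section

variable {G : Type*} [Group G] [Finite G]

/-- In a `p`-solvable group with abelian Sylow `p`-subgroup `P` not centralized by
`O_{p'}(G)` ... contrapositive: if `P` centralizes `O_{p'}(G)` then `P` is normal. -/
theorem normal_of_centralizes {p : ℕ} [hp : Fact p.Prime] (hsolv : IsPSolvable p G)
    (P : Sylow p G) (hab : ∀ a ∈ (P : Subgroup G), ∀ b ∈ (P : Subgroup G), a * b = b * a)
    (hc : ∀ a ∈ (P : Subgroup G), ∀ m ∈ pPrimeCore p G, a * m = m * a) :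
    (P : Subgroup G).Normal := by
  classical
  set M := pPrimeCore p G with hM
  have hMc : (Nat.card M).Coprime p := Cfsg.Agent.Lib.Cores.pPrimeCore_coprime p
  have h1 := Cfsg.Agent.Lib.PSolvable.centralizer_pCore_le_of_pSolvable (G := G ⧸ M) p
    (Cfsg.Agent.PLocal.PSolvable.isPSolvable_quotient hsolv M)
    (Cfsg.Agent.Lib.Cores.pPrimeCore_quotient_pPrimeCore p)
  let Q : Sylow p (G ⧸ M) := P.mapSurjective (QuotientGroup.mk'_surjective M)
  have hQ : (Q : Subgroup (G ⧸ M)) = (P : Subgroup G).map (QuotientGroup.mk' M) :=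
    Sylow.coe_mapSurjective _ _
  have h2 : pCore p (G ⧸ M) ≤ Q := Cfsg.Agent.Lib.Cores.pCore_le_sylow Q
  have h3 : (Q : Subgroup (G ⧸ M)) ≤ Subgroup.centralizer (pCore p (G ⧸ M) : Set (G ⧸ M)) := by
    intro y hy
    rw [Subgroup.mem_centralizer_iff]
    intro z hz
    have hz' := h2 hz
    rw [hQ] at hy hz'
    obtain ⟨a, ha, rfl⟩ := hy
    obtain ⟨b, hb, rfl⟩ := hz'
    rw [← map_mul, ← map_mul, hab b hb a ha]
  have h4 : (Q : Subgroup (G ⧸ M)) = pCore p (G ⧸ M) := le_antisymm (h3.trans h1) h2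
  -- `P M` is normal
  have h5 : ∀ g : G, ∀ y ∈ (P : Subgroup G), ∃ a ∈ (P : Subgroup G), ∃ m ∈ M,
      g * y * g⁻¹ = a * m := by
    intro g y hy
    have h6 : QuotientGroup.mk' M (g * y * g⁻¹) ∈ pCore p (G ⧸ M) := by
      rw [map_mul, map_mul, map_inv]
      apply (Cfsg.Agent.Lib.Cores.pCore_normal p).conj_mem
      rw [← h4, hQ]
      exact ⟨y, hy, rfl⟩
    rw [← h4, hQ] at h6
    obtain ⟨a, ha, hay⟩ := h6
    refine ⟨a, ha, a⁻¹ * (g * y * g⁻¹), ?_, by group⟩
    rw [← QuotientGroup.eq_one_iff, QuotientGroup.mk_mul]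
    have : (QuotientGroup.mk' M a) = QuotientGroup.mk' M (g * y * g⁻¹) := hay
    simp only [QuotientGroup.mk'_apply] at this
    rw [← this, QuotientGroup.mk_inv, inv_mul_cancel]
  constructor
  intro y hy g
  obtain ⟨a, ha, m, hm, hgm⟩ := h5 g y hy
  obtain ⟨k, hk⟩ := P.isPGroup' ⟨y, hy⟩
  obtain ⟨j, hj⟩ := P.isPGroup' ⟨a, ha⟩
  have hk' : y ^ p ^ k = 1 := congrArg Subtype.val hk
  have hj' : a ^ p ^ j = 1 := congrArg Subtype.val hj
  have h6 : (a * m) ^ p ^ (k + j) = 1 := by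
    rw [← hgm, conj_pow, pow_add, pow_mul, hk', one_pow, mul_one, mul_inv_cancel]
  have h7 : Commute a m := hc a ha m hm
  rw [h7.mul_pow, pow_add, mul_comm (p ^ k), pow_mul a, hj', one_pow, one_mul,
    mul_comm (p ^ j), ← pow_add] at h6
  have h8 : m = 1 := by
    have h9 : orderOf m ∣ p ^ (k + j) := orderOf_dvd_of_pow_eq_one h6
    have h10 : orderOf m ∣ Nat.card M := by
      have := orderOf_dvd_natCard (⟨m, hm⟩ : M)
      rwa [Subgroup.orderOf_mk] at this
    have h11 : orderOf m ∣ 1 := by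
      have h12 : (Nat.card M).Coprime (p ^ (k + j)) := Nat.Coprime.pow_right _ hMc
      rw [← h12.gcd_eq_one]
      exact Nat.dvd_gcd h10 h9
    exact orderOf_eq_one_iff.1 (Nat.dvd_one.1 h11)
  rw [hgm, h8, mul_one]
  exact ha

/-- **Itô.** -/
theorem main {n : ℕ} (ρ : Representation ℂ G (Fin n → ℂ)) (hρ : Function.Injective ρ) {p : ℕ}
    [hp : Fact p.Prime] (hsolv : IsPSolvable p G) (hnp : n + 1 ≤ p) (P : Sylow p G)
    (hP : ¬ (P : Subgroup G).Normal) : n + 1 = p ∧ (∃ k : ℕ, n = 2 ^ k) ∧ ρ.IsIrreducible := by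
  classical
  have hab : ∀ a ∈ (P : Subgroup G), ∀ b ∈ (P : Subgroup G), a * b = b * a := fun a ha b hb =>
    Cfsg.Agent.CharactersDeep.NormalSylow.comm_of_isPGroup ρ hρ (by omega) P P.isPGroup' ha hb
  set M := pPrimeCore p G with hM
  have hMc : (Nat.card M).Coprime p := Cfsg.Agent.Lib.Cores.pPrimeCore_coprime p
  have hMn : M.Normal := Cfsg.Agent.Lib.Cores.pPrimeCore_normal p
  obtain ⟨x₀, hx₀P, hx₀⟩ : ∃ x ∈ (P : Subgroup G), ∃ m ∈ M, x * m ≠ m * x := by
    by_contra hcon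
    push Not at hcon
    exact hP (normal_of_centralizes hsolv P hab hcon)
  -- replace `x₀` by a power
  obtain ⟨x, hxP, hxM, hxpM⟩ : ∃ x ∈ (P : Subgroup G), (∃ m ∈ M, x * m ≠ m * x) ∧
      ∀ m ∈ M, x ^ p * m = m * x ^ p := by
    obtain ⟨k, hk⟩ := P.isPGroup' ⟨x₀, hx₀P⟩
    have hk' : x₀ ^ p ^ k = 1 := congrArg Subtype.val hk
    have hex : ∃ j : ℕ, ∀ m ∈ M, x₀ ^ p ^ j * m = m * x₀ ^ p ^ j :=
      ⟨k, fun m _ => by rw [hk', one_mul, mul_one]⟩
    have hj := Nat.find_spec hex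
    have hj0 : Nat.find hex ≠ 0 := by
      intro h0
      rw [h0, pow_zero, pow_one] at hj
      obtain ⟨m, hm, hne⟩ := hx₀
      exact hne (hj m hm)
    obtain ⟨i, hi⟩ := Nat.exists_eq_succ_of_ne_zero hj0
    refine ⟨x₀ ^ p ^ i, Subgroup.pow_mem _ hx₀P _, ?_, ?_⟩
    · have h1 := Nat.find_min hex (m := i) (by omega)
      push Not at h1
      exact h1
    · intro m hm
      rw [← pow_mul, ← pow_succ]
      rw [hi] at hj
      exact hj m hm
  have hx1 : x ≠ 1 := by
    rintro rfl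
    obtain ⟨m, _, hne⟩ := hxM
    exact hne (by rw [one_mul, mul_one])
  have hZ : IsPGroup p (Subgroup.zpowers x) :=
    P.isPGroup'.to_le (Subgroup.zpowers_le.2 hxP)
  obtain ⟨k, hk⟩ : ∃ k, orderOf x = p ^ (k + 1) := by
    obtain ⟨j, hj⟩ := P.isPGroup' ⟨x, hxP⟩
    have hj' : x ^ p ^ j = 1 := congrArg Subtype.val hj
    obtain ⟨i, _, hi⟩ := (Nat.dvd_prime_pow hp.out).1 (orderOf_dvd_of_pow_eq_one hj')
    have hi0 : i ≠ 0 := by
      rintro rfl
      rw [pow_zero, orderOf_eq_one_iff] at hi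
      exact hx1 hi
    obtain ⟨k, rfl⟩ := Nat.exists_eq_succ_of_ne_zero hi0
    exact ⟨k, hi⟩
  -- an invariant Sylow subgroup not centralized by `x`
  obtain ⟨q, hq, Q, hQM, hQq, hQx, hQne⟩ : ∃ q : ℕ, q.Prime ∧ ∃ Q : Subgroup G, Q ≤ M ∧
      IsPGroup q Q ∧ (∀ b ∈ Subgroup.zpowers x, ∀ u ∈ Q, b * u * b⁻¹ ∈ Q) ∧
      ∃ u ∈ Q, x * u ≠ u * x := by
    by_contra hcon
    push Not at hcon
    have h1 : (Subgroup.centralizer ({x} : Set G)).subgroupOf M = ⊤ := by
      apply Cfsg.Agent.Lib.Cores.eq_top_of_sylow_le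
      intro q hq
      obtain ⟨S, ⟨T, hT⟩, hS⟩ := Cfsg.Agent.Lib.PGroupCoprimeAction.exists_invariant_sylow
        (G := G) (A := Subgroup.zpowers x) (H := M) hZ
        (fun h => hp.out.one_lt.ne' (Nat.eq_one_of_dvd_coprimes hMc h dvd_rfl))
        (fun b _ u hu => hMn.conj_mem u hu b) q
      refine ⟨T, ?_⟩
      intro t ht
      rw [Subgroup.mem_subgroupOf, Subgroup.mem_centralizer_singleton_iff]
      have hSM : S ≤ M := by
        rw [← hT]
        exact Subgroup.map_subtype_le _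
      have hSq : IsPGroup q S := by
        rw [← hT]
        exact T.isPGroup'.map _
      have htS : (t : G) ∈ S := by
        rw [← hT]
        exact ⟨t, ht, rfl⟩
      exact (hcon q hq.out S hSM hSq hS t htS).symm
    obtain ⟨m, hm, hne⟩ := hxM
    apply hne
    have h2 : (⟨m, hm⟩ : M) ∈ (Subgroup.centralizer ({x} : Set G)).subgroupOf M := by
      rw [h1]; trivial
    rw [Subgroup.mem_subgroupOf, Subgroup.mem_centralizer_singleton_iff] at h2
    exact h2.symm
  have := Fact.mk hq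
  -- the group `H = Q⟨x⟩`
  let H : Subgroup G := Q ⊔ Subgroup.zpowers x
  have hQH : Q ≤ H := le_sup_left
  have hxH : x ∈ H := (le_sup_right : Subgroup.zpowers x ≤ H) (Subgroup.mem_zpowers x)
  have hHN : H ≤ Subgroup.normalizer (Q : Set G) := by
    refine sup_le Subgroup.le_normalizer ?_
    intro b hb
    rw [Subgroup.mem_normalizer_iff]
    intro u
    refine ⟨fun hu => hQx b hb u hu, fun hu => ?_⟩
    have := hQx b⁻¹ ((Subgroup.zpowers x).inv_mem hb) _ hu
    have h2 : b⁻¹ * (b * u * b⁻¹) * b⁻¹⁻¹ = u := by group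
    rwa [h2] at this
  let M' : Subgroup H := Q.subgroupOf H
  have hM'n : M'.Normal := Subgroup.normal_subgroupOf_of_le_normalizer hHN
  let x' : H := ⟨x, hxH⟩
  have hM'card : Nat.card M' = Nat.card Q := Nat.card_congr (Subgroup.subgroupOfEquivOfLe hQH).toEquiv
  have hQc : (Nat.card Q).Coprime p := hMc.coprime_dvd_left (Subgroup.card_dvd_of_le hQM)
  let σ : Representation ℂ H (Fin n → ℂ) := ρ.comp H.subtype
  have hσ : Function.Injective σ := fun a b hab' => Subtype.ext (hρ hab')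
  have htop : M' ⊔ Subgroup.zpowers x' = ⊤ := by
    apply Subgroup.map_injective H.subtype_injective
    rw [Subgroup.map_sup, Subgroup.subgroupOf_map_subtype, inf_eq_left.2 hQH,
      MonoidHom.map_zpowers, ← MonoidHom.range_eq_map, Subgroup.range_subtype]
    rfl
  have hxp' : ∀ g : H, g * x' ^ p = x' ^ p * g := by
    intro g
    have h1 : (⊤ : Subgroup H) ≤ Subgroup.centralizer ({x' ^ p} : Set H) := by
      rw [← htop]
      refine sup_le ?_ ?_
      · intro a ha
        rw [Subgroup.mem_centralizer_singleton_iff]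
        apply Subtype.ext
        show (a : G) * x ^ p = x ^ p * a
        exact (hxpM a (hQM (Subgroup.mem_subgroupOf.1 ha))).symm
      · rw [Subgroup.zpowers_le, Subgroup.mem_centralizer_singleton_iff]
        exact (pow_succ' x' p).symm.trans (pow_succ x' p)
    have h2 := h1 (Subgroup.mem_top g)
    rwa [Subgroup.mem_centralizer_singleton_iff] at h2
  obtain ⟨u, huQ, hu⟩ := hQne
  obtain ⟨hn1, hirr⟩ := irr_of_small σ hσ hnp M' (by rw [hM'card]; exact hQc) x' k
    (by rw [← hk]; exact Subgroup.orderOf_mk x hxH) htop hxp'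
    ⟨⟨u, hQH huQ⟩, fun h' => hu (congrArg Subtype.val h')⟩
  refine ⟨hn1, ?_, isIrreducible_of_comp H.subtype ρ hirr⟩
  -- the degree is a power of `q`
  have h1 : finrank ℂ (Fin n → ℂ) ∣ Nat.card H :=
    Cfsg.Agent.Characters.DegreeBounds.finrank_dvd_card σ
  rw [Module.finrank_fin_fun] at h1
  have h2 : Nat.card H ∣ Nat.card M' * Nat.card (Subgroup.zpowers x') := by
    have := Cfsg.Agent.Lib.Cores.card_sup_dvd M' (Subgroup.zpowers x') hM'n
    rw [htop] at this
    rwa [Nat.card_congr Subgroup.topEquiv.toEquiv] at this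
  have h3 : Nat.card (Subgroup.zpowers x') = p ^ (k + 1) := by
    rw [Nat.card_zpowers, ← hk]
    exact Subgroup.orderOf_mk x hxH
  have h4 : n.Coprime (p ^ (k + 1)) := by
    apply Nat.Coprime.pow_right
    rw [Nat.coprime_comm, ← hn1]
    exact (Nat.coprime_self_add_left.2 (Nat.coprime_one_left n) : _)
  have h5 : n ∣ Nat.card Q := by
    rw [h3, hM'card] at h2
    exact h4.dvd_of_dvd_mul_right (h1.trans h2)
  obtain ⟨a, ha⟩ := IsPGroup.iff_card.1 hQq
  rw [ha] at h5
  obtain ⟨b, _, hb⟩ := (Nat.dvd_prime_pow hq).1 h5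
  rcases hp.out.eq_two_or_odd' with h2' | h2'
  · refine ⟨0, ?_⟩
    rw [pow_zero]
    omega
  · have hneven : Even n := by
      rw [← hn1] at h2'
      rcases h2' with ⟨c, hc⟩
      exact ⟨c, by omega⟩
    have hb0 : b ≠ 0 := by
      rintro rfl
      rw [pow_zero] at hb
      rw [hb] at hneven
      exact absurd hneven (by decide)
    have hq2 : q = 2 := by
      rw [hb] at hneven
      have h6 : Even q := (Nat.even_pow.1 hneven).1
      exact (Nat.Prime.even_iff hq).1 h6
    exact ⟨b, by rw [hb, hq2]⟩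

end

end Cfsg.Agent.H599.Ito
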