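import Mathlib
import Cfsg.Agent.H599.RowsA
import Cfsg.Agent.H934.IdxTwD4
import Cfsg.Agent.S1067
import Cfsg.Agent.S2129

/-!
# `IdxOK` for `³D₄(q)`
-/

set_option autoImplicit false

namespace Cfsg.Agent.H599.IdxD4T

open Cfsg.Lie Cfsg.Agent.H539 Cfsg.Agent.H599.IdxE Cfsg.Agent.H599.IdxJor

universe u

theorem twD4 {K : Type u} [Field K] [Fintype K] {q : ℕ} (hq : IsPrimePow q) (hK : Fintype.card K = q ^ 3)
    (hs : IsSimpleGroup ↥(twistedD4 K q)) (hna : ¬ IsMulCommutative ↥(twistedD4 K q)) : IdxOK ↥(twistedD4 K q) := by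
  have : Finite (GL chevD4.Idx K) := inferInstance
  have hb := H934.IdxTwD4.card_le_index hq hK hs
  have hcard := S1067.result (K := K) hq hK
  obtain ⟨p, f, hp, hf, hqe⟩ := (isPrimePow_nat_iff _).1 hq
  have : Fact p.Prime := ⟨hp⟩
  have hcp : CharP K p := by
    obtain ⟨p', hp'⟩ := CharP.exists K
    obtain ⟨k, hpp, hk⟩ := FiniteField.card K p'
    have h1 : p' ∣ p := hpp.dvd_of_dvd_pow (n := f * 3) (by
      rw [pow_mul, hqe, ← hK, hk]; exact dvd_pow_self p' k.pos.ne')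
    rwa [← (Nat.prime_dvd_prime_iff_eq hpp hp).1 h1]
  have hout : Nat.card (Cfsg.Out ↥(twistedD4 K q)) = 3 * f := by
    subst hqe
    exact S2129.result p f (by rw [hK, ← pow_mul, mul_comm]) hf
  have hq2 : 2 ≤ q := hq.one_lt
  have hfq : f < q := hqe ▸ Nat.lt_pow_self hp.one_lt
  have ho : Nat.card (Cfsg.Out ↥(twistedD4 K q)) ≤ 3 * (q - 1) := by rw [hout]; omega
  rcases Nat.lt_or_ge q 5 with h5 | h5
  · interval_cases q
    · have hc : Nat.card ↥(twistedD4 K 2) = 211341312 := hcard.trans (by norm_num)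
      exact IdxOK.of_bound hna ho hc.le (b := 26) (by norm_num)
        (le_index_of_check hna hc (P := [13]) (by norm_num) t3) (by norm_num)
    · have hc : Nat.card ↥(twistedD4 K 3) = 20560831566912 := hcard.trans (by norm_num)
      exact IdxOK.of_card ho hc.le (prime_le_index hna (p := 73) (by norm_num) (by rw [hc]; norm_num)) (by norm_num)
    · have hc : Nat.card ↥(twistedD4 K 4) = 67802350642790400 := hcard.trans (by norm_num)
      exact IdxOK.of_card ho hc.le hb (by norm_num)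
  · have ht : Nat.card ↥(twistedD4 K q) ≤ q ^ 28 := by
      have e1 : (q ^ 2 - 1) * (q ^ 8 + q ^ 4 + 1) ≤ q ^ 10 := by
        have h1 : 1 ≤ q ^ 2 := Nat.one_le_pow _ _ (by omega)
        obtain ⟨r, hr⟩ : ∃ r, q ^ 2 = r + 1 := ⟨q ^ 2 - 1, by omega⟩
        have e8 : q ^ 8 = (r + 1) ^ 4 := by rw [← hr]; ring
        have e4 : q ^ 4 = (r + 1) ^ 2 := by rw [← hr]; ring
        have e10 : q ^ 10 = (r + 1) ^ 5 := by rw [← hr]; ring
        rw [hr, e8, e4, e10, Nat.add_sub_cancel]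
        nlinarith [Nat.zero_le r, Nat.zero_le (r ^ 2), Nat.zero_le (r ^ 3), Nat.zero_le (r ^ 4)]
      calc Nat.card ↥(twistedD4 K q) = q ^ 12 * ((q ^ 2 - 1) * (q ^ 8 + q ^ 4 + 1)) * (q ^ 6 - 1) := by
            rw [hcard]; ring
        _ ≤ q ^ 12 * q ^ 10 * q ^ 6 := Nat.mul_le_mul (Nat.mul_le_mul_left _ e1) (Nat.sub_le _ _)
        _ = _ := by ring
    refine of_pow (q := q) (N := 31) (b := q ^ 3) (by omega) ?_ hb ?_
    · calc _ ≤ (3 * (q - 1)) * q ^ 28 := Nat.mul_le_mul ho ht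
        _ ≤ q ^ 3 * q ^ 28 := by
          apply Nat.mul_le_mul_right
          have : 25 * q ≤ q ^ 3 := by rw [pow_succ]; exact Nat.mul_le_mul_right _ (Nat.pow_le_pow_left h5 2)
          omega
        _ = _ := by ring
    · obtain ⟨r, rfl⟩ : ∃ r, q = r + 5 := ⟨q - 5, by omega⟩
      have h1 : (r + 5) ^ 3 = r ^ 3 + 15 * r ^ 2 + 75 * r + 125 := by ring
      have h2 : (0 : ℕ) ≤ r ^ 3 := Nat.zero_le _
      have h3 : (0 : ℕ) ≤ 15 * r ^ 2 := Nat.zero_le _
      omega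

theorem row : RowOf (fun T _ => Cfsg.Lie.Iso3D4 T) := by
  rintro T _ _ _ hT ⟨K, _, _, q, hq, hK, ⟨e⟩⟩
  exact RowsA.of_equiv hT e fun h h' => twD4 hq hK h h'

end Cfsg.Agent.H599.IdxD4T
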