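import Cfsg.Agent.H540.EngG
import Cfsg.Agent.H599.IdxSR
import Cfsg.Agent.H599.IdxG2
import Cfsg.Agent.H599.IdxD4T
import Cfsg.Agent.H934.HeisTwD4

/-!
# `Good T` for the exceptional groups of Lie type (generic case)

`Sz(q)`, `²G₂(q)`, `²F₄(q)` with `q ≥ 32`, `³D₄(q)` with `q ≥ 3`, `G₂(q)` with `q ≥ 7`.
-/

set_option autoImplicit false

namespace Cfsg.Agent.H599.GoodA

open Cfsg Cfsg.Lie Cfsg.Agent.H539 Cfsg.Agent.H599.IdxE Cfsg.Agent.H599.IdxSR Cfsg.Agent.H599.IdxJor Cfsg.Agent.H540.Good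
open Cfsg.Agent.H540.ClassNum (card_conjClasses_le_card)

universe u

/-- Transport. -/
theorem of_equiv {T : Type} [Group T] [IsSimpleGroup T] (hT : ¬ IsMulCommutative T) {X : Type} [Group X]
    (e : T ≃* X) (h : IsSimpleGroup X → ¬ IsMulCommutative X → Good X) : Good T := by
  refine (h e.symm.isSimpleGroup ?_).congr e.symm
  intro hc
  apply hT
  refine ⟨⟨fun a b => e.injective ?_⟩⟩
  rw [map_mul, map_mul]
  exact hc.is_comm.comm _ _

theorem of_card {T : Type u} [Group T] [Finite T] {o t b : ℕ} (ho : Nat.card (Cfsg.Out T) ≤ o)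
    (ht : Nat.card T ≤ t) (hb : ∀ K : Subgroup T, K ≠ ⊤ → b ≤ K.index) (h : (t * o) ^ 2 ≤ 2 ^ b) : Good T :=
  Good.of_bounds (card_conjClasses_le_card.trans ht) ho hb h

theorem of_pow {T : Type u} [Group T] [Finite T] {q N b : ℕ} (hq : 1 ≤ q)
    (h1 : Nat.card (Cfsg.Out T) * Nat.card T ≤ q ^ N) (hb : ∀ K : Subgroup T, K ≠ ⊤ → b ≤ K.index)
    (h2 : 2 * N * (q - 1) ≤ b) : Good T := by
  refine of_card le_rfl le_rfl hb ?_
  calc (Nat.card T * Nat.card (Cfsg.Out T)) ^ 2 ≤ (q ^ N) ^ 2 := Nat.pow_le_pow_left ((mul_comm _ _).trans_le h1) 2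
    _ ≤ ((2 ^ (q - 1)) ^ N) ^ 2 := Nat.pow_le_pow_left (Nat.pow_le_pow_left (IdxE.le_two_pow hq) N) 2
    _ = 2 ^ (2 * N * (q - 1)) := by rw [← pow_mul, ← pow_mul]; congr 1; ring
    _ ≤ _ := Nat.pow_le_pow_right (by norm_num) h2

/-- `|Out T| ≤ f`, `|T| ≤ q ^ N`, `q = 2 ^ f`. -/
theorem of_two {T : Type u} [Group T] [Finite T] {f N b : ℕ} (ho : Nat.card (Cfsg.Out T) = f)
    (ht : Nat.card T ≤ (2 ^ f) ^ N) (hb : ∀ K : Subgroup T, K ≠ ⊤ → b ≤ K.index) (h : 2 * ((N + 1) * f) ≤ b) :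
    Good T := by
  refine of_card ho.le ht hb ?_
  have h1 : f ≤ 2 ^ f := Nat.lt_two_pow_self.le
  calc ((2 ^ f) ^ N * f) ^ 2 ≤ ((2 ^ f) ^ N * 2 ^ f) ^ 2 := Nat.pow_le_pow_left (Nat.mul_le_mul_left _ h1) 2
    _ = 2 ^ (2 * ((N + 1) * f)) := by rw [← pow_succ, ← pow_mul, ← pow_mul]; congr 1; ring
    _ ≤ _ := Nat.pow_le_pow_right (by norm_num) h

theorem twelve_mul_le {f : ℕ} (h : 7 ≤ f) : 12 * f ≤ 2 ^ f := by
  induction f, h using Nat.le_induction with
  | base => norm_num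
  | succ n hn ih => rw [pow_succ]; omega

theorem fiftyfour_mul_le {f : ℕ} (h : 9 ≤ f) : 54 * f ≤ 2 ^ f := by
  induction f, h using Nat.le_induction with
  | base => norm_num
  | succ n hn ih => rw [pow_succ]; omega

theorem sixty_mul_le {f : ℕ} (h : 3 ≤ f) : 60 * f ≤ 9 ^ f := by
  induction f, h using Nat.le_induction with
  | base => norm_num
  | succ n hn ih => rw [pow_succ]; omega

/-! ### Suzuki groups -/

theorem sz_card_le {F : Type u} [Field F] [Fintype F] {m : ℕ} (hm : 1 ≤ m) (hF : Fintype.card F = 2 ^ (2 * m + 1)) :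
    Nat.card ↥(Cfsg.Lie.Sz F (2 ^ (m + 1))) ≤ (2 ^ (2 * m + 1)) ^ 5 := by
  classical
  rw [(S1163.result hm hF).1]
  set q := 2 ^ (2 * m + 1) with hq
  have hq1 : 1 ≤ q := Nat.one_le_two_pow
  obtain ⟨r, hr⟩ : ∃ r, q = r + 1 := ⟨q - 1, by omega⟩
  rw [hr]
  simp only [Nat.add_sub_cancel]
  have : r * ((r + 1) ^ 2 + 1) ≤ (r + 1) ^ 3 := by nlinarith [Nat.zero_le r]
  calc (r + 1) ^ 2 * r * ((r + 1) ^ 2 + 1) = (r + 1) ^ 2 * (r * ((r + 1) ^ 2 + 1)) := by ring
    _ ≤ (r + 1) ^ 2 * (r + 1) ^ 3 := Nat.mul_le_mul_left _ this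
    _ = _ := by ring

theorem sz {F : Type u} [Field F] [Fintype F] {m : ℕ} (hm : 1 ≤ m) (hF : Fintype.card F = 2 ^ (2 * m + 1))
    (hs : IsSimpleGroup ↥(Cfsg.Lie.Sz F (2 ^ (m + 1)))) (hna : ¬ IsMulCommutative ↥(Cfsg.Lie.Sz F (2 ^ (m + 1)))) :
    Good ↥(Cfsg.Lie.Sz F (2 ^ (m + 1))) := by
  classical
  have hout := S2126.result hm hF
  have hcard := (S1163.result hm hF).1
  have hb := H934.IdxSz.card_le_index hF hs
  rcases Nat.lt_or_ge m 3 with h | h
  · interval_cases m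
    · have hcard' : Nat.card ↥(Cfsg.Lie.Sz F (2 ^ (1 + 1))) = 29120 := hcard.trans (by norm_num)
      exact H540.EngG.of_check₀ hna (o := 3) hout.le [(2, 6), (5, 1), (7, 1), (13, 1)]
        (by norm_num) hcard' (by decide +kernel)
        [.V, .V, .V, .V, .V, .V, .V, .V, .J 7 1, .K [7,13], .D, .J 13 1, .D, .D, .D, .J 13 1, .D, .D, .D]
        (by decide +kernel)
    · have hcard' : Nat.card ↥(Cfsg.Lie.Sz F (2 ^ (2 + 1))) = 32537600 := hcard.trans (by norm_num)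
      exact H540.EngG.of_check hna (o := 5) (N := 32537600) (M := 32537600) (b := 32) hout.le
        (hcard' ▸ card_conjClasses_le_card) [(2, 10), (5, 2), (31, 1), (41, 1)] []
        (by norm_num) hcard' (by decide +kernel) (fun e he => absurd he (by simp)) (by norm_num)
        (fun K hK => (by rw [hF]; norm_num : (32 : ℕ) ≤ Fintype.card F).trans (hb K hK))
        [.V, .V, .V, .V, .V, .V, .V, .V, .V, .J 31 1, .D, .D]
        (by decide +kernel)
  · exact of_two (b := 2 ^ (2 * m + 1)) hout (sz_card_le hm hF) (fun K hK => hF ▸ hb K hK)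
      (by have := twelve_mul_le (f := 2 * m + 1) (by omega); omega)

/-! ### Ree groups -/

theorem ree_card_le {K : Type u} [Field K] [Fintype K] {m : ℕ} (hK : Fintype.card K = 3 ^ (2 * m + 1)) :
    Nat.card ↥(twistedG2 K (3 ^ m)) ≤ (3 ^ (2 * m + 1)) ^ 7 := by
  rw [S1069.result hK]
  set q := 3 ^ (2 * m + 1) with hq
  have hq1 : 1 ≤ q := Nat.one_le_pow _ _ (by norm_num)
  obtain ⟨r, hr⟩ : ∃ r, q = r + 1 := ⟨q - 1, by omega⟩
  rw [hr]
  simp only [Nat.add_sub_cancel]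
  have : r * ((r + 1) ^ 3 + 1) ≤ (r + 1) ^ 4 := by
    have h1 : r ≤ (r + 1) ^ 3 := (Nat.le_succ r).trans (Nat.le_self_pow (by norm_num) _)
    calc r * ((r + 1) ^ 3 + 1) = r * (r + 1) ^ 3 + r := by ring
      _ ≤ r * (r + 1) ^ 3 + (r + 1) ^ 3 := Nat.add_le_add_left h1 _
      _ = _ := by ring
  calc (r + 1) ^ 3 * r * ((r + 1) ^ 3 + 1) = (r + 1) ^ 3 * (r * ((r + 1) ^ 3 + 1)) := by ring
    _ ≤ (r + 1) ^ 3 * (r + 1) ^ 4 := Nat.mul_le_mul_left _ this
    _ = _ := by ring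

theorem two_seven_le {f : ℕ} (h : 5 ≤ f) : 24 * f + 1 ≤ (3 ^ f + 1) / 2 := by
  rw [Nat.le_div_iff_mul_le (by norm_num)]
  induction f, h using Nat.le_induction with
  | base => norm_num
  | succ n hn ih => rw [pow_succ]; omega

theorem ree {K : Type u} [Field K] [Fintype K] {m : ℕ} (hm : 1 ≤ m) (hK : Fintype.card K = 3 ^ (2 * m + 1))
    (hs : IsSimpleGroup ↥(twistedG2 K (3 ^ m))) (hna : ¬ IsMulCommutative ↥(twistedG2 K (3 ^ m))) :
    Good ↥(twistedG2 K (3 ^ m)) := by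
  classical
  have : Finite (GL chevG2.Idx K) := inferInstance
  have hout := S2127.result hm hK
  have hcard := S1069.result hK
  have hb := H934.IdxRee.card_le_two_mul hK hs
  rcases Nat.lt_or_ge m 2 with h | h
  · have hm1 : m = 1 := by omega
    subst hm1
    have hcard' : Nat.card ↥(twistedG2 K (3 ^ 1)) = 10073444472 := hcard.trans (by norm_num)
    have h37 := prime_le_index hna (p := 37) (by norm_num) (by rw [hcard']; norm_num)
    exact H540.EngG.of_check hna (o := 3) (N := 10073444472) (M := 10073444472) (b := 37) hout.le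
        (hcard' ▸ card_conjClasses_le_card) [(2, 3), (3, 9), (7, 1), (13, 1), (19, 1), (37, 1)] []
        (by norm_num) hcard' (by decide +kernel) (fun e he => absurd he (by simp)) (by norm_num)
        h37
        [.J 19 1, .K [19,37], .K [19,37], .D, .D, .J 37 1, .D, .D, .D, .D, .D, .D, .D, .D, .D, .J 37 1, .D, .J 37 1, .D, .J 37 1, .J 37 1]
        (by decide +kernel)
  · set f := 2 * m + 1 with hf
    have h1 : f ^ 2 ≤ 3 ^ f := by
      have h5 : 5 ≤ f := by omega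
      clear_value f
      clear hf hout hcard hb hK
      induction f, h5 using Nat.le_induction with
      | base => norm_num
      | succ n hn ih => rw [pow_succ 3]; nlinarith
    refine of_card hout.le (ree_card_le hK) (b := 24 * f + 1) ?_ ?_
    · intro H hH
      have h1 := hb H hH
      have h2 := two_seven_le (f := f) (by omega)
      rw [hK] at h1
      omega
    · have h3 : (3 : ℕ) ^ 5 ≤ 2 ^ 8 := by norm_num
      calc ((3 ^ f) ^ 7 * f) ^ 2 = ((3 ^ f) ^ 14) * f ^ 2 := by ring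
        _ ≤ (3 ^ f) ^ 14 * 3 ^ f := Nat.mul_le_mul_left _ h1
        _ = ((3 ^ 5) ^ 3) ^ f := by rw [← pow_mul, ← pow_mul, ← pow_mul, ← pow_add]; congr 1; ring
        _ ≤ ((2 ^ 8) ^ 3) ^ f := Nat.pow_le_pow_left (Nat.pow_le_pow_left h3 3) f
        _ = 2 ^ (24 * f) := by rw [← pow_mul, ← pow_mul]; congr 1; ring
        _ ≤ _ := Nat.pow_le_pow_right (by norm_num) (by omega)

/-! ### `²F₄(q)` -/

theorem tf4_card_le {K : Type u} [Field K] [Fintype K] {m : ℕ} (hK : Fintype.card K = 2 ^ (2 * m + 1)) :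
    Nat.card ↥(twistedF4 K (2 ^ m)) ≤ (2 ^ (2 * m + 1)) ^ 26 := by
  rw [S1068.result hK]
  set q := 2 ^ (2 * m + 1) with hq
  have hq1 : 1 ≤ q := Nat.one_le_two_pow
  have e1 : (q - 1) * (q ^ 3 + 1) ≤ q ^ 4 := by
    obtain ⟨r, hr⟩ : ∃ r, q = r + 1 := ⟨q - 1, by omega⟩
    rw [hr]
    simp only [Nat.add_sub_cancel]
    have h1 : r ≤ (r + 1) ^ 3 := (Nat.le_succ r).trans (Nat.le_self_pow (by norm_num) _)
    calc r * ((r + 1) ^ 3 + 1) = r * (r + 1) ^ 3 + r := by ring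
      _ ≤ r * (r + 1) ^ 3 + (r + 1) ^ 3 := Nat.add_le_add_left h1 _
      _ = _ := by ring
  have e2 : (q ^ 4 - 1) * (q ^ 6 + 1) ≤ q ^ 10 := by
    have hq4 : 1 ≤ q ^ 4 := Nat.one_le_pow _ _ hq1
    obtain ⟨r, hr⟩ : ∃ r, q ^ 4 = r + 1 := ⟨q ^ 4 - 1, by omega⟩
    have h1 : r ≤ q ^ 6 := by
      have : q ^ 4 ≤ q ^ 6 := Nat.pow_le_pow_right hq1 (by norm_num)
      omega
    have h2 : q ^ 10 = (r + 1) * q ^ 6 := by rw [← hr]; ring
    rw [h2, hr, Nat.add_sub_cancel]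
    calc r * (q ^ 6 + 1) = r * q ^ 6 + r := by ring
      _ ≤ r * q ^ 6 + q ^ 6 := Nat.add_le_add_left h1 _
      _ = _ := by ring
  calc q ^ 12 * (q - 1) * (q ^ 3 + 1) * (q ^ 4 - 1) * (q ^ 6 + 1)
      = q ^ 12 * ((q - 1) * (q ^ 3 + 1)) * ((q ^ 4 - 1) * (q ^ 6 + 1)) := by ring
    _ ≤ q ^ 12 * q ^ 4 * q ^ 10 := Nat.mul_le_mul (Nat.mul_le_mul_left _ e1) e2
    _ = _ := by ring

theorem tf4 {K : Type u} [Field K] [Fintype K] {m : ℕ} (hm : 2 ≤ m) (hK : Fintype.card K = 2 ^ (2 * m + 1))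
    (hs : IsSimpleGroup ↥(twistedF4 K (2 ^ m))) (hna : ¬ IsMulCommutative ↥(twistedF4 K (2 ^ m))) :
    Good ↥(twistedF4 K (2 ^ m)) := by
  classical
  have : Finite (GL chevF4.Idx K) := inferInstance
  have hout := S2128.result (by omega : 1 ≤ m) hK
  have hcard := S1068.result hK
  have hb := H934.IdxTwF4.card_le_index hK hs
  have ht := tf4_card_le hK
  rcases Nat.lt_or_ge m 4 with h | h
  · have hd : ∀ p : ℕ, p ∣ (2 ^ (2 * m + 1)) ^ 6 + 1 → p ∣ Nat.card ↥(twistedF4 K (2 ^ m)) := fun p hp => by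
      rw [hcard]; exact hp.mul_left _
    interval_cases m
    · exact of_two hout ht (prime_le_index hna (p := 1321) (by norm_num) (hd _ (by norm_num))) (by norm_num)
    · exact of_two hout ht (prime_le_index hna (p := 1429) (by norm_num) (hd _ (by norm_num))) (by norm_num)
  · exact of_two (b := 2 ^ (2 * m + 1)) hout ht (fun H hH => hK ▸ hb H hH)
      (by have := fiftyfour_mul_le (f := 2 * m + 1) (by omega); omega)

/-! ### `³D₄(q)` -/

theorem td4_out {K : Type u} [Field K] [Fintype K] {q : ℕ} (hq : IsPrimePow q) (hK : Fintype.card K = q ^ 3) :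
    Nat.card (Cfsg.Out ↥(twistedD4 K q)) ≤ 3 * (q - 1) := by
  obtain ⟨p, f, hp, hf, hqe⟩ := (isPrimePow_nat_iff _).1 hq
  have : Fact p.Prime := ⟨hp⟩
  have hcp : CharP K p := by
    obtain ⟨p', hp'⟩ := CharP.exists K
    obtain ⟨k, hpp, hk⟩ := FiniteField.card K p'
    have h1 : p' ∣ p := hpp.dvd_of_dvd_pow (n := f * 3) (by
      rw [pow_mul, hqe, ← hK, hk]; exact dvd_pow_self p' k.pos.ne')
    rwa [← (Nat.prime_dvd_prime_iff_eq hpp hp).1 h1]
  have hout : Nat.card (Cfsg.Out ↥(twistedD4 K q)) = 3 * f := by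
    subst hqe
    exact S2129.result p f (by rw [hK, ← pow_mul, mul_comm]) hf
  have hq2 : 2 ≤ q := hq.one_lt
  have hfq : f < q := hqe ▸ Nat.lt_pow_self hp.one_lt
  rw [hout]
  omega

theorem td4_card_le {K : Type u} [Field K] [Fintype K] {q : ℕ} (hq : IsPrimePow q) (hK : Fintype.card K = q ^ 3) :
    Nat.card ↥(twistedD4 K q) ≤ q ^ 28 := by
  have hq2 : 2 ≤ q := hq.one_lt
  have hcard := S1067.result (K := K) hq hK
  have e1 : (q ^ 2 - 1) * (q ^ 8 + q ^ 4 + 1) ≤ q ^ 10 := by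
    have h1 : 1 ≤ q ^ 2 := Nat.one_le_pow _ _ (by omega)
    obtain ⟨r, hr⟩ : ∃ r, q ^ 2 = r + 1 := ⟨q ^ 2 - 1, by omega⟩
    have e8 : q ^ 8 = (r + 1) ^ 4 := by rw [← hr]; ring
    have e4 : q ^ 4 = (r + 1) ^ 2 := by rw [← hr]; ring
    have e10 : q ^ 10 = (r + 1) ^ 5 := by rw [← hr]; ring
    rw [hr, e8, e4, e10, Nat.add_sub_cancel]
    nlinarith [Nat.zero_le r, Nat.zero_le (r ^ 2), Nat.zero_le (r ^ 3), Nat.zero_le (r ^ 4)]
  calc Nat.card ↥(twistedD4 K q) = q ^ 12 * ((q ^ 2 - 1) * (q ^ 8 + q ^ 4 + 1)) * (q ^ 6 - 1) := by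
        rw [hcard]; ring
    _ ≤ q ^ 12 * q ^ 10 * q ^ 6 := Nat.mul_le_mul (Nat.mul_le_mul_left _ e1) (Nat.sub_le _ _)
    _ = _ := by ring

theorem td4_index {K : Type u} [Field K] [Fintype K] {q : ℕ} (hq : IsPrimePow q) (hK : Fintype.card K = q ^ 3)
    (hs : IsSimpleGroup ↥(twistedD4 K q)) (H : Subgroup ↥(twistedD4 K q)) (hH : H ≠ ⊤) : q ^ 5 ≤ H.index := by
  have h := H934.HeisTwD4.bound_3D4 hq hK hs H hH
  rw [show q ^ 10 = (q ^ 5) ^ 2 by ring] at h
  exact (Nat.pow_le_pow_iff_left (by norm_num)).1 h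

theorem td4 {K : Type u} [Field K] [Fintype K] {q : ℕ} (hq : IsPrimePow q) (h3 : 3 ≤ q) (hK : Fintype.card K = q ^ 3)
    (hs : IsSimpleGroup ↥(twistedD4 K q)) : Good ↥(twistedD4 K q) := by
  have : Finite (GL chevD4.Idx K) := inferInstance
  refine of_pow (q := q) (N := 30) (b := q ^ 5) (by omega) ?_ (td4_index hq hK hs) ?_
  · calc _ ≤ (3 * (q - 1)) * q ^ 28 := Nat.mul_le_mul (td4_out hq hK) (td4_card_le hq hK)
      _ ≤ q ^ 2 * q ^ 28 := by
        apply Nat.mul_le_mul_right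
        obtain ⟨r, rfl⟩ : ∃ r, q = r + 3 := ⟨q - 3, by omega⟩
        have h1 : (r + 3) ^ 2 = r ^ 2 + 6 * r + 9 := by ring
        have h2 : (0 : ℕ) ≤ r ^ 2 := Nat.zero_le _
        omega
      _ = _ := by ring
  · have h1 : 3 ^ 4 * q ≤ q ^ 5 := by
      rw [pow_succ q 4]
      exact Nat.mul_le_mul_right _ (Nat.pow_le_pow_left h3 4)
    omega

/-! ### `G₂(q)` -/

theorem g2 {F : Type u} [Field F] [Fintype F] (h3 : 7 ≤ Fintype.card F) (h5 : ¬ 5 ∣ Nat.card ↥(chevG2.group F))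
    (hs : IsSimpleGroup ↥(chevG2.group F)) : Good ↥(chevG2.group F) := by
  have : Finite (GL chevG2.Idx F) := inferInstance
  obtain ⟨p, f, hp, hc, hf, hF⟩ := exists_char F
  have : Fact p.Prime := ⟨hp⟩
  have hout := S2121.result p f hF (by rw [← hF]; omega)
  have ht := IdxG2.card_le (F := F)
  by_cases hp3 : p = 3
  · subst hp3
    rw [if_pos rfl] at hout
    have hf3 : 3 ≤ f := by
      by_contra hf3
      rcases (show f = 1 ∨ f = 2 by omega) with rfl | rfl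
      · rw [hF] at h3; omega
      · apply h5
        rw [S1059.result (F := F) hF]
        norm_num
    refine of_card hout.le ht (IdxG2.sq_le hs) ?_
    have h1 : 2 * f ≤ 4 ^ f := by
      clear hF hout h3 hf
      induction f, hf3 using Nat.le_induction with
      | base => norm_num
      | succ n hn ih => rw [pow_succ]; omega
    have h2 := sixty_mul_le hf3
    rw [hF]
    calc ((3 ^ f) ^ 14 * (2 * f)) ^ 2 ≤ ((4 ^ f) ^ 14 * 4 ^ f) ^ 2 := by
          gcongr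
          norm_num
      _ = (4 ^ f) ^ 30 := by ring
      _ = 2 ^ (60 * f) := by
          rw [show (4 : ℕ) = 2 ^ 2 by norm_num, ← pow_mul, ← pow_mul]; congr 1; ring
      _ ≤ 2 ^ ((3 ^ f) ^ 2) := by
          refine Nat.pow_le_pow_right (by norm_num) ?_
          rwa [← pow_mul, mul_comm f 2, pow_mul]
  · rw [if_neg hp3] at hout
    have h30 : (3 : F) ≠ 0 := by
      intro h0
      have h1 : ((3 : ℕ) : F) = 0 := by exact_mod_cast h0
      rw [CharP.cast_eq_zero_iff F p] at h1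
      exact hp3 ((Nat.prime_dvd_prime_iff_eq hp Nat.prime_three).1 h1)
    refine of_pow (q := Fintype.card F) (N := 15) (b := Fintype.card F ^ 3) (by omega) ?_ (IdxG2.cube_le h30 hs) ?_
    · have h5 : f ≤ Fintype.card F := hF ▸ IdxE.le_pow hp
      calc _ ≤ Fintype.card F * Fintype.card F ^ 14 := Nat.mul_le_mul (hout.le.trans h5) ht
        _ = _ := by ring
    · have h5 : 7 ^ 2 * Fintype.card F ≤ Fintype.card F ^ 3 := by
        rw [pow_succ _ 2]
        exact Nat.mul_le_mul_right _ (Nat.pow_le_pow_left h3 2)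
      omega

/-! ### the rows -/

theorem row_sz (T : Type) [Group T] [IsSimpleGroup T] (hT : ¬ IsMulCommutative T) (h : Lie.IsoSuzuki T) : Good T := by
  obtain ⟨F, _, _, m, hm, hF, ⟨e⟩⟩ := h
  exact of_equiv hT e fun h h' => sz hm hF h h'

theorem row_ree (T : Type) [Group T] [IsSimpleGroup T] (hT : ¬ IsMulCommutative T) (h : Lie.IsoRee T) : Good T := by
  obtain ⟨F, _, _, m, hm, hF, ⟨e⟩⟩ := h
  exact of_equiv hT e fun h h' => ree hm hF h h'

theorem row_tf4 (T : Type) [Group T] [IsSimpleGroup T] (hT : ¬ IsMulCommutative T) (h : Lie.Iso2F4 T)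
    (h7 : ¬ 7 ∣ Nat.card T) : Good T := by
  obtain ⟨F, _, _, m, hm, hF, ⟨e⟩⟩ := h
  have hm2 : 2 ≤ m := by
    by_contra hcon
    have hm1 : m = 1 := by omega
    subst hm1
    apply h7
    rw [Nat.card_congr e.toEquiv, S1068.result hF]
    norm_num
  exact of_equiv hT e fun h h' => tf4 hm2 hF h h'

end Cfsg.Agent.H599.GoodA
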