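import Cfsg.Agent.H599.GoodB
import Cfsg.Agent.H400.LieLocal
import Cfsg.Agent.S2382
import Cfsg.Agent.S0635

/-!
# `Good` for `G₂(3)`
-/

set_option autoImplicit false

namespace Cfsg.Agent.H599.GoodC

open Cfsg Cfsg.Agent.H540.Good
open Cfsg.Agent.BpLieP.Big (LocChar)

/-- `k(X) ≤ |X|_p + (k_{p'}(X) - 1) |X|_p / p` if no nonidentity `p'`-element centralises a Sylow `p`-subgroup. -/
theorem k_le_pprime' {X : Type*} [Group X] [Finite X] (p : ℕ) [hp : Fact p.Prime] {c a : ℕ}
    (hc : Nat.card {c : ConjClasses X // ∃ g : X, ConjClasses.mk g = c ∧ (orderOf g).Coprime p} ≤ c)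
    (ha : (Nat.card X).factorization p ≤ a + 1)
    (hloc : ∀ s : X, s ≠ 1 → (orderOf s).Coprime p →
      (Nat.card (Subgroup.centralizer ({s} : Set X))).factorization p ≤ a) :
    Nat.card (ConjClasses X) ≤ p ^ (a + 1) + (c - 1) * p ^ a := by
  classical
  let I := {c : ConjClasses X // ∃ g : X, ConjClasses.mk g = c ∧ (orderOf g).Coprime p}
  have hrep : ∀ i : I, ∃ g : X, ConjClasses.mk g = i.1 ∧ (orderOf g).Coprime p := fun i => i.2
  choose rep hrep1 hrep2 using hrep
  let J : I → Type _ := fun i =>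
    {C : ConjClasses (Subgroup.centralizer ({rep i} : Set X)) //
      ∀ q : ℕ, q.Prime → (∃ g : Subgroup.centralizer ({rep i} : Set X),
        ConjClasses.mk g = C ∧ q ∣ orderOf g) → q ∈ ({p} : Set ℕ)}
  have hJ0 : ∀ i, Nat.card (J i) ≤ p ^ (Nat.card (Subgroup.centralizer ({rep i} : Set X))).factorization p := by
    intro i
    set C := Nat.card (Subgroup.centralizer ({rep i} : Set X)) with hCdef
    have hC0 : C ≠ 0 := Nat.card_pos.ne'
    exact S4106.result (G := Subgroup.centralizer ({rep i} : Set X)) ({p} : Set ℕ)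
      (by intro q hq; rw [Set.mem_singleton_iff] at hq; rw [hq]; exact hp.out)
      (p ^ C.factorization p) (Nat.ordProj_dvd C p)
      (by
        intro q hq hqd
        rw [Set.mem_singleton_iff]
        exact (Nat.prime_dvd_prime_iff_eq hq hp.out).1 (hq.dvd_of_dvd_pow hqd))
      (by
        intro q hq
        rw [Set.mem_singleton_iff] at hq
        rw [hq]
        exact Nat.not_dvd_ordCompl hp.out hC0)
  let i0 : I := ⟨ConjClasses.mk 1, 1, rfl, by rw [orderOf_one]; exact Nat.coprime_one_left p⟩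
  have hJ : ∀ i, Nat.card (J i) ≤ if i = i0 then p ^ (a + 1) else p ^ a := by
    intro i
    refine (hJ0 i).trans ?_
    split_ifs with h
    · refine Nat.pow_le_pow_right hp.out.pos (le_trans ?_ ha)
      exact (Nat.factorization_le_iff_dvd Nat.card_pos.ne' Nat.card_pos.ne').2
        (Subgroup.card_subgroup_dvd_card _) p
    · refine Nat.pow_le_pow_right hp.out.pos (hloc _ (fun h1 => h (Subtype.ext ?_)) (hrep2 i))
      rw [← hrep1 i, h1]
  let F : (Σ i : I, J i) → ConjClasses X := fun z =>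
    Quotient.lift (fun y : Subgroup.centralizer ({rep z.1} : Set X) => ConjClasses.mk (rep z.1 * y.1))
      (by
        intro y y' hy
        obtain ⟨c, hc⟩ := isConj_iff.1 hy
        rw [ConjClasses.mk_eq_mk_iff_isConj, isConj_iff]
        refine ⟨c.1, ?_⟩
        have h1 : rep z.1 * c.1 = c.1 * rep z.1 := (Subgroup.mem_centralizer_iff.1 c.2) _ rfl
        rw [← hc]
        change c.1 * (rep z.1 * y.1) * c.1⁻¹ = rep z.1 * (c.1 * y.1 * c.1⁻¹)
        rw [← mul_assoc, ← h1]; group) z.2.1
  have hF : Function.Surjective F := by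
    intro D
    obtain ⟨g, rfl⟩ := ConjClasses.mk_surjective D
    obtain ⟨s, w, hg, hsw, hs, k, hw⟩ := exists_parts p g
    let i : I := ⟨ConjClasses.mk s, s, rfl, hs⟩
    obtain ⟨c, hc⟩ := isConj_iff.1 (ConjClasses.mk_eq_mk_iff_isConj.1 (hrep1 i)).symm
    have hmem : c * w * c⁻¹ ∈ Subgroup.centralizer ({rep i} : Set X) := by
      rw [Subgroup.mem_centralizer_iff]
      intro y hy
      rw [Set.mem_singleton_iff] at hy
      rw [hy, ← hc]
      calc c * s * c⁻¹ * (c * w * c⁻¹) = c * (s * w) * c⁻¹ := by group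
        _ = c * (w * s) * c⁻¹ := by rw [hsw]
        _ = _ := by group
    refine ⟨⟨i, ⟨ConjClasses.mk ⟨c * w * c⁻¹, hmem⟩, ?_⟩⟩, ?_⟩
    · rintro q hq ⟨y, hy, hqy⟩
      rw [Set.mem_singleton_iff]
      have h1 : orderOf y ∣ p ^ k := by
        apply orderOf_dvd_of_pow_eq_one
        obtain ⟨d, hd⟩ := isConj_iff.1 (ConjClasses.mk_eq_mk_iff_isConj.1 hy).symm
        rw [← hd, conj_pow]
        have h2 : (⟨c * w * c⁻¹, hmem⟩ : Subgroup.centralizer ({rep i} : Set X)) ^ p ^ k = 1 := by
          apply Subtype.ext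
          change (c * w * c⁻¹) ^ p ^ k = 1
          rw [conj_pow, hw, mul_one, mul_inv_cancel]
        rw [h2, mul_one, mul_inv_cancel]
      exact (Nat.prime_dvd_prime_iff_eq hq hp.out).1 (hq.dvd_of_dvd_pow (hqy.trans h1))
    · change ConjClasses.mk (rep i * (c * w * c⁻¹)) = ConjClasses.mk g
      rw [ConjClasses.mk_eq_mk_iff_isConj, isConj_comm, isConj_iff]
      refine ⟨c, ?_⟩
      rw [hg, ← hc]; group
  have := Fintype.ofFinite I
  have h1 : Nat.card (ConjClasses X) ≤ Nat.card (Σ i : I, J i) := Nat.card_le_card_of_surjective F hF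
  rw [Nat.card_sigma] at h1
  refine h1.trans ?_
  calc ∑ i : I, Nat.card (J i) ≤ ∑ i : I, (if i = i0 then p ^ (a + 1) else p ^ a) := Finset.sum_le_sum fun i _ => hJ i
    _ = p ^ (a + 1) + (Nat.card I - 1) * p ^ a := by
      rw [← Finset.add_sum_erase _ _ (Finset.mem_univ i0), if_pos rfl]
      congr 1
      rw [Finset.sum_congr rfl (g := fun _ => p ^ a) (fun i hi => if_neg (Finset.mem_erase.1 hi).1), Finset.sum_const,
        Finset.card_erase_of_mem (Finset.mem_univ _), Finset.card_univ, smul_eq_mul, ← Nat.card_eq_fintype_card]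
    _ ≤ p ^ (a + 1) + (c - 1) * p ^ a := Nat.add_le_add_left (Nat.mul_le_mul_right _ (Nat.sub_le_sub_right hc 1)) _

/-- In a group of local characteristic `p`, no nonidentity `p'`-element centralises a Sylow `p`-subgroup. -/
theorem factorization_le {X : Type*} [Group X] [Finite X] (p : ℕ) [hp : Fact p.Prime] (hL : LocChar p X)
    {a : ℕ} (ha : (Nat.card X).factorization p = a + 1) {s : X} (hs1 : s ≠ 1) (hs : (orderOf s).Coprime p) :
    (Nat.card (Subgroup.centralizer ({s} : Set X))).factorization p ≤ a := by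
  by_contra hcon
  push Not at hcon
  obtain ⟨P, hP⟩ := Sylow.exists_subgroup_card_pow_prime (G := Subgroup.centralizer ({s} : Set X)) p (n := a + 1)
    ((Nat.pow_dvd_pow p hcon).trans (Nat.ordProj_dvd _ _))
  set K : Subgroup X := P.map (Subgroup.centralizer ({s} : Set X)).subtype with hK
  have hKc : Nat.card K = p ^ (a + 1) := by
    rw [hK, Nat.card_congr (P.equivMapOfInjective _ (Subgroup.subtype_injective _)).toEquiv.symm]
    exact hP
  have hKp : IsPGroup p K := IsPGroup.of_card hKc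
  have hK1 : K ≠ ⊥ := by
    intro h
    rw [h, Subgroup.card_bot] at hKc
    exact absurd hKc.symm (Nat.one_lt_pow (by omega) hp.out.one_lt).ne'
  have hsK : ∀ x ∈ K, s * x = x * s := by
    rintro _ ⟨x, hx, rfl⟩
    exact (Subgroup.mem_centralizer_iff.1 x.2) s rfl
  have hsN : s ∈ Subgroup.normalizer (K : Set X) := by
    rw [Subgroup.mem_normalizer_iff]
    intro x
    constructor
    · intro hx
      rw [hsK x hx, mul_inv_cancel_right]
      exact hx
    · intro hx
      have h1 := hsK _ hx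
      have h2 : x = s⁻¹ * (s * x * s⁻¹) * s := by group
      rw [h2, mul_assoc, ← h1, inv_mul_cancel_left]
      exact hx
  set N := Subgroup.normalizer (K : Set X) with hN
  have h := hL K hKp hK1
  rw [← hN] at h
  have hKN : K ≤ N := Subgroup.le_normalizer
  have hK' : Nat.card (K.subgroupOf N) = p ^ (a + 1) := by
    rw [Nat.card_congr (Subgroup.subgroupOfEquivOfLe hKN).toEquiv, hKc]
  have hfac : (Nat.card N).factorization p = a + 1 := by
    apply le_antisymm
    · rw [← ha]
      exact (Nat.factorization_le_iff_dvd Nat.card_pos.ne' Nat.card_pos.ne').2 (Subgroup.card_subgroup_dvd_card _) p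
    · refine (hp.out.pow_dvd_iff_le_factorization Nat.card_pos.ne').1 ?_
      rw [← hK']
      exact Subgroup.card_subgroup_dvd_card _
  let Q : Sylow p N := Sylow.ofCard (K.subgroupOf N) (by rw [hK', hfac])
  have hQ : (Q : Subgroup N) = K.subgroupOf N := Sylow.coe_ofCard _ _
  have hle : pCore p N ≤ K.subgroupOf N := hQ ▸ S0635.pCore_le_sylow p Q
  have hcorep : IsPGroup p (pCore p N) := (IsPGroup.of_card hK').to_le hle
  have hcoreK : ∀ y ∈ pCore p N, (y : X) ∈ K := fun y hy => Subgroup.mem_subgroupOf.1 (hle hy)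
  have hmem : (⟨s, hsN⟩ : N) ∈ Subgroup.centralizer (pCore p N : Set N) := by
    rw [Subgroup.mem_centralizer_iff]
    intro y hy
    apply Subtype.ext
    exact (hsK _ (hcoreK y hy)).symm
  obtain ⟨k, hk⟩ := hcorep ⟨_, h hmem⟩
  have hk' : s ^ p ^ k = 1 := by
    have := congrArg (fun z : pCore p N => ((z : N) : X)) hk
    simpa using this
  have h1 : orderOf s ∣ p ^ k := orderOf_dvd_of_pow_eq_one hk'
  have h2 : orderOf s = 1 := Nat.Coprime.eq_one_of_dvd (hs.pow_right k) h1
  exact hs1 (orderOf_eq_one_iff.1 h2)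

theorem g2_three {F : Type} [Field F] [Fintype F] (hF : Fintype.card F = 3)
    (hs : IsSimpleGroup ↥(Lie.chevG2.group F)) (hna : ¬ IsMulCommutative ↥(Lie.chevG2.group F)) :
    Good ↥(Lie.chevG2.group F) := by
  have hfin : Finite (GL Lie.chevG2.Idx F) := inferInstance
  obtain ⟨p, f, hp, hc, hf, hF'⟩ := IdxE.exists_char F
  have hp3 : p = 3 := by
    rw [hF] at hF'
    have h6 : p ∣ 3 := by rw [hF']; exact dvd_pow_self p (by omega)
    exact (Nat.prime_dvd_prime_iff_eq hp Nat.prime_three).1 h6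
  subst hp3
  have hf1 : f = 1 := by
    rw [hF] at hF'
    have h1 : 3 ^ f = 3 ^ 1 := by rw [← hF', pow_one]
    exact Nat.pow_right_injective (le_refl 2 |>.trans (by norm_num)) h1
  subst hf1
  have : Fact (Nat.Prime 3) := ⟨Nat.prime_three⟩
  have hcard : Nat.card ↥(Lie.chevG2.group F) = 4245696 := (S1059.result (F := F) hF).trans (by norm_num)
  have hout := S2121.result 3 1 hF' (by norm_num)
  rw [if_pos rfl] at hout
  have hb : ∀ K : Subgroup ↥(Lie.chevG2.group F), K ≠ ⊤ → 26 ≤ K.index :=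
    IdxJor.le_index_of_check hna hcard (P := [13]) (by norm_num) IdxJor.t2
  have hL : LocChar 3 ↥(Lie.chevG2.group F) := by
    refine H400.LieLocal.local_char_of_lie ?_ (fun h => absurd h.1 (by norm_num))
    refine Or.inr (Or.inr (Or.inr (Or.inr (Or.inr (Or.inr (Or.inl ?_))))))
    exact ⟨F, _, _, hc, Or.inl ⟨hF.ge, ⟨MulEquiv.refl _⟩⟩⟩
  have hfac : (Nat.card ↥(Lie.chevG2.group F)).factorization 3 = 5 + 1 := by
    rw [hcard]
    have h1 : (4245696 : ℕ) = 3 ^ 6 * 5824 := by norm_num
    rw [h1, Nat.factorization_mul (by norm_num) (by norm_num), Nat.prime_three.factorization_pow]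
    have h2 : (5824 : ℕ).factorization 3 = 0 := Nat.factorization_eq_zero_of_not_dvd (by norm_num)
    simp [h2]
  have hcl := S2382.result (F := F) hF 3 Lie.chevG2 (by simp)
  have hk := k_le_pprime' 3 hcl.le hfac.le (fun s hs1 hs => factorization_le 3 hL hfac hs1 hs)
  refine Good.of_bounds (c := 2673) (o := 2) (L := 26) ?_ hout.le hb (by norm_num)
  refine hk.trans ?_
  rw [show Lie.chevG2.rank = 2 from rfl]
  norm_num

/-! ### the rows -/

theorem row_g2 (T : Type) [Group T] [IsSimpleGroup T] (hT : ¬ IsMulCommutative T) (h : Lie.IsoChevG2 T)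
    (h5 : ¬ 5 ∣ Nat.card T) : Good T := by
  obtain ⟨F, _, _, h3, ⟨e⟩⟩ := h
  refine GoodA.of_equiv hT e fun h h' => ?_
  have h5' : ¬ 5 ∣ Nat.card ↥(Lie.chevG2.group F) := by rwa [← Nat.card_congr e.toEquiv]
  rcases Nat.lt_or_ge (Fintype.card F) 7 with h7 | h7
  · have hcard := S1059.result (F := F) rfl
    rw [hcard] at h5'
    generalize hq : Fintype.card F = q at *
    interval_cases q
    · exact g2_three hq h h'
    · norm_num at h5'
    · norm_num at h5'
    · norm_num at h5'
  · exact GoodA.g2 h7 h5' h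

theorem row_td4 (T : Type) [Group T] [IsSimpleGroup T] (hT : ¬ IsMulCommutative T) (h : Lie.Iso3D4 T) : Good T := by
  obtain ⟨K, _, _, q, hq, hK, ⟨e⟩⟩ := h
  refine GoodA.of_equiv hT e fun h h' => ?_
  rcases Nat.lt_or_ge q 3 with h3 | h3
  · have h2 : q = 2 := by have := hq.one_lt; omega
    subst h2
    exact GoodB.td4_two hK h h'
  · exact GoodA.td4 hq h3 hK h

end Cfsg.Agent.H599.GoodC
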