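import Mathlib
import Cfsg.Agent.H599.Spec
import Cfsg.Agent.H599.RowsA
import Cfsg.Agent.ChevalleyStructure.TwE6BN
import Cfsg.Agent.ChevalleyStructure.TwE6Card
import Cfsg.Agent.S1032
import Cfsg.Agent.S1066
import Cfsg.Agent.S2130

/-!
# A special subgroup `q^{1+12}` of `²E₆(q)`

The six pairs `{r, r̄}`, `r ≠ r̄`, of roots with `(r, θ) = 1`. Proper subgroups of `²E₆(q)` have index at least `q⁷`.
`IdxOK` for `²E₆(q)`.
-/

set_option autoImplicit false

namespace Cfsg.Agent.H599.IdxE6T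

open Cfsg.Lie Cfsg.Agent.ChevalleyStructure.Elts Cfsg.Agent.H599.Spec
  Cfsg.Agent.H539 Cfsg.Agent.H599.IdxE Cfsg.Agent.H599.IdxJor

open Cfsg.Agent.ChevalleyStructure.TwE6Basic (x hE6 sg_x rho epsE wp fix mem_fix twisted_le_fix posE sg
  comm_of_commTerms exists_frob single_mem n)
open Cfsg.Agent.ChevalleyStructure.TwE6BN (rs x_mem_rs rs_le acts_n conj_rs)

universe u

variable {K : Type u} [Field K]

/-! ### Membership in the twisted group -/

/-- apply a word in the relative simple reflections to a root -/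
def app : List (Fin 4) → ℕ → ℕ
  | [], r => r
  | i :: L, r => app L (wp i r)

theorem mem_tw {q : ℕ} (φ : K →+* K) (hφ : ∀ t, φ t = t ^ q) (hqq : ∀ t : K, (t ^ q) ^ q = t) {i : Fin 4} :
    ∀ (L : List (Fin 4)) {A : List ℕ}, (∀ r ∈ A, r < 72 ∧ app L r ∈ posE i) →
      ∀ {g : GL chevE6.Idx K}, g ∈ rs K A → g ∈ fix φ → g ∈ twistedE6 K q
  | [], A, hA, g, hg, hf => by
    refine ChevalleyStructure.TwE6BN.X_fix_le φ hφ i ?_ hf
    exact rs_le (fun r hr t => x_mem_rs (hA r hr).2 t) hg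
  | j :: L, A, hA, g, hg, hf => by
    have hn : n (K := K) j ∈ twistedE6 K q := ChevalleyStructure.TwE6BN.n_mem_G φ hφ j
    have h1 : n (K := K) j * g * (n (K := K) j)⁻¹ ∈ rs K (A.map (wp j)) :=
      conj_rs (acts_n j) (fun r hr => ⟨(hA r hr).1, List.mem_map.2 ⟨r, hr, rfl⟩⟩) hg
    have hnf : n (K := K) j ∈ fix φ := twisted_le_fix φ hφ hqq hn
    have h2 := mem_tw φ hφ hqq (i := i) L (A := A.map (wp j)) (by
      intro r hr
      obtain ⟨s, hs, rfl⟩ := List.mem_map.1 hr
      exact ⟨ChevalleyStructure.TwE6Basic.wp_lt j ⟨s, (hA s hs).1⟩, (hA s hs).2⟩) h1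
      (mul_mem (mul_mem hnf hf) (inv_mem hnf))
    have h3 := mul_mem (mul_mem (inv_mem hn) h2) hn
    have e : (n (K := K) j)⁻¹ * (n (K := K) j * g * (n (K := K) j)⁻¹) * n (K := K) j = g := by group
    rwa [e] at h3

/-! ### Tables -/

/-- the pairs -/
def P : Fin 6 → Fin 72 × Fin 72 := ![(48, 50), (49, 61), (52, 62), (64, 54), (67, 55), (68, 66)]

/-- the signs -/
def ep : Fin 6 → ℤ := ![1, -1, -1, -1, -1, 1]

/-- the coefficients -/
def ka : Fin 6 → ℤ := ![1, -1, 1, -1, 1, -1]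

/-- the words -/
def wd : Fin 6 → List (Fin 4) :=
  ![[0, 1], [3, 0, 1], [2, 3, 0, 1], [1, 2, 3, 0, 1], [2, 1, 2, 3, 0, 1], [3, 2, 1, 2, 3, 0, 1]]

/-- the opposite pair -/
def op (i : Fin 6) : Fin 6 := ⟨5 - i, by omega⟩

theorem op_ne : ∀ i, op i ≠ i := by decide +kernel
theorem op_op : ∀ i, op (op i) = i := by decide +kernel
theorem wd_spec : ∀ i : Fin 6, ∀ r ∈ [(P i).1.val, (P i).2.val], r < 72 ∧ app (wd i) r ∈ posE 2 := by decide +kernel
theorem rho_spec : ∀ i, rho (P i).1 = (P i).2 ∧ rho (P i).2 = (P i).1 ∧ epsE (P i).1 = ep i ∧ epsE (P i).2 = ep i := by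
  decide +kernel
theorem ep_sq : ∀ i, ep i * ep i = 1 := by decide +kernel
theorem ep_op : ∀ i, ep i * ep (op i) = 1 := by decide +kernel
theorem ka_sq : ∀ i, ka i * ka i = 1 := by decide +kernel
theorem in_pair : ∀ i, (P i).2.val ≠ (P i).1.val ∧ (P i).2.val ≠ chevE6.neg (P i).1.val ∧
    chevE6.commTerms (P i).1.val (P i).2.val = [] := by decide +kernel
theorem th_pair : ∀ i, ∀ r ∈ [(P i).1.val, (P i).2.val], 71 ≠ r ∧ 71 ≠ chevE6.neg r ∧ chevE6.commTerms r 71 = [] := by
  decide +kernel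
theorem cross : ∀ i j, i ≠ j → ∀ r ∈ [(P j).1.val, (P j).2.val], ∀ s ∈ [(P i).1.val, (P i).2.val],
    s ≠ r ∧ s ≠ chevE6.neg r ∧ (j ≠ op i → chevE6.commTerms r s = []) := by decide +kernel
theorem opp_pair : ∀ i, chevE6.commTerms (P (op i)).1.val (P i).1.val = [(71, -ka i, 1, 1)] ∧
    chevE6.commTerms (P (op i)).2.val (P i).2.val = [(71, -ka i, 1, 1)] ∧
    chevE6.commTerms (P (op i)).2.val (P i).1.val = [] ∧
    chevE6.commTerms (P (op i)).1.val (P i).2.val = [] := by decide +kernel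
theorem th_spec : rho 71 = 71 ∧ epsE 71 = 1 := by decide +kernel
theorem th_word : ∀ r ∈ [71], r < 72 ∧ app [0, 1, 2, 3, 1, 2, 1] r ∈ posE 0 := by decide +kernel

/-! ### Relations -/

theorem comm_single' {r s : ℕ} {c : ℤ} (hr : r < 72) (hs : s < 72) (hrs : s ≠ r) (hneg : s ≠ chevE6.neg r)
    (h : chevE6.commTerms r s = [(71, c, 1, 1)]) (t v : K) :
    x s v * x r t = x r t * x s v * x 71 (-(c : K) * t * v) := by
  have h1 := Cfsg.Agent.S1025.result (F := K) chevE6 hE6 r s hr hs hrs hneg t v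
  have h2 : chevE6.commWord K r s t v = [(71, -(c : K) * t * v)] := by
    show (chevE6.commTerms r s).map _ = _
    rw [h]
    simp only [List.map_cons, List.map_nil, pow_one]
    congr 2
    ring
  rw [h2, wordMat_cons, wordMat_nil, mul_one] at h1
  exact Units.ext h1

theorem lt1 (i : Fin 6) : (P i).1.val < 72 := (P i).1.isLt
theorem lt2 (i : Fin 6) : (P i).2.val < 72 := (P i).2.isLt

theorem c_th1 (i : Fin 6) (t a : K) : x 71 a * x (P i).1.val t = x (P i).1.val t * x 71 a :=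
  comm_of_commTerms (lt1 i) (by norm_num) (th_pair i _ (by simp)).1 (th_pair i _ (by simp)).2.1
    (th_pair i _ (by simp)).2.2 t a

theorem c_th2 (i : Fin 6) (t a : K) : x 71 a * x (P i).2.val t = x (P i).2.val t * x 71 a :=
  comm_of_commTerms (lt2 i) (by norm_num) (th_pair i _ (by simp)).1 (th_pair i _ (by simp)).2.1
    (th_pair i _ (by simp)).2.2 t a

theorem c_in (i : Fin 6) (t v : K) : x (P i).2.val v * x (P i).1.val t = x (P i).1.val t * x (P i).2.val v :=
  comm_of_commTerms (lt1 i) (lt2 i) (in_pair i).1 (in_pair i).2.1 (in_pair i).2.2 t v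

/-- the elements -/
noncomputable def X (φ : K →+* K) (i : Fin 6) (t : K) : GL chevE6.Idx K :=
  x (P i).1.val t * x (P i).2.val ((ep i : K) * φ t)

variable {φ : K →+* K}

theorem X_add (i : Fin 6) (s t : K) : X φ i (s + t) = X φ i s * X φ i t := by
  unfold X
  rw [map_add, mul_add, ← ChevalleyStructure.TwE6Basic.x_add, ← ChevalleyStructure.TwE6Basic.x_add]
  calc x (P i).1.val s * x (P i).1.val t * (x (P i).2.val ((ep i : K) * φ s) * x (P i).2.val ((ep i : K) * φ t))
      = x (P i).1.val s * (x (P i).1.val t * x (P i).2.val ((ep i : K) * φ s)) *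
        x (P i).2.val ((ep i : K) * φ t) := by group
    _ = _ := by rw [← c_in]; group

theorem X_th (i : Fin 6) (t a : K) : X φ i t * x 71 a = x 71 a * X φ i t := by
  unfold X
  rw [mul_assoc, ← c_th2, ← mul_assoc, ← c_th1, mul_assoc]

/-- commuting products of two elements, abstractly -/
theorem prod_comm {G : Type*} [Group G] {a1 a2 b1 b2 z1 z2 : G} (h11 : a1 * b1 = b1 * a1 * z1)
    (h22 : a2 * b2 = b2 * a2 * z2) (h12 : a1 * b2 = b2 * a1) (h21 : a2 * b1 = b1 * a2)
    (hz1 : z1 * a2 = a2 * z1) (hz2 : z1 * b2 = b2 * z1) :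
    (a1 * a2) * (b1 * b2) = (b1 * b2) * (a1 * a2) * (z1 * z2) := by
  calc (a1 * a2) * (b1 * b2) = a1 * (a2 * b1) * b2 := by group
    _ = (a1 * b1) * (a2 * b2) := by rw [h21]; group
    _ = b1 * a1 * (z1 * b2) * a2 * z2 := by rw [h11, h22]; group
    _ = b1 * (a1 * b2) * (z1 * a2) * z2 := by rw [hz2]; group
    _ = _ := by rw [h12, hz1]; group

theorem X_comm (i j : Fin 6) (s t : K) : X φ i s * X φ j t =
    X φ j t * X φ i s * x 71 (if j = op i then (ka i : K) * (s * t + φ (s * t)) else 0) := by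
  rcases eq_or_ne i j with rfl | hij
  · rw [if_neg (op_ne i).symm, ChevalleyStructure.TwE6Basic.x_zero, mul_one, ← X_add, ← X_add, add_comm]
  by_cases h : j = op i
  · subst h
    rw [if_pos rfl]
    obtain ⟨h1, h2, h3, h4⟩ := opp_pair i
    have c11 := cross i (op i) hij (P (op i)).1.val (by simp) (P i).1.val (by simp)
    have c12 := cross i (op i) hij (P (op i)).2.val (by simp) (P i).1.val (by simp)
    have c21 := cross i (op i) hij (P (op i)).1.val (by simp) (P i).2.val (by simp)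
    have c22 := cross i (op i) hij (P (op i)).2.val (by simp) (P i).2.val (by simp)
    have e11 := comm_single' (lt1 (op i)) (lt1 i) c11.1 c11.2.1 h1 t s
    have e22 := comm_single' (lt2 (op i)) (lt2 i) c22.1 c22.2.1 h2 ((ep (op i) : K) * φ t) ((ep i : K) * φ s)
    have e12 := comm_of_commTerms (lt2 (op i)) (lt1 i) c12.1 c12.2.1 h3 ((ep (op i) : K) * φ t) s
    have e21 := comm_of_commTerms (lt1 (op i)) (lt2 i) c21.1 c21.2.1 h4 t ((ep i : K) * φ s)
    have hee : ((ep i : K) * (ep (op i) : K)) = 1 := by exact_mod_cast congrArg (Int.cast : ℤ → K) (ep_op i)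
    unfold X
    rw [prod_comm e11 e22 e12 e21 (c_th2 i _ _) (c_th2 (op i) _ _), ChevalleyStructure.TwE6Basic.x_add]
    congr 2
    rw [map_mul]
    push_cast
    linear_combination (ka i : K) * φ s * φ t * hee
  · rw [if_neg h, ChevalleyStructure.TwE6Basic.x_zero, mul_one]
    have c11 := cross i j hij (P j).1.val (by simp) (P i).1.val (by simp)
    have c12 := cross i j hij (P j).2.val (by simp) (P i).1.val (by simp)
    have c21 := cross i j hij (P j).1.val (by simp) (P i).2.val (by simp)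
    have c22 := cross i j hij (P j).2.val (by simp) (P i).2.val (by simp)
    have e11 := comm_of_commTerms (lt1 j) (lt1 i) c11.1 c11.2.1 (c11.2.2 h) t s
    have e22 := comm_of_commTerms (lt2 j) (lt2 i) c22.1 c22.2.1 (c22.2.2 h) ((ep j : K) * φ t) ((ep i : K) * φ s)
    have e12 := comm_of_commTerms (lt2 j) (lt1 i) c12.1 c12.2.1 (c12.2.2 h) ((ep j : K) * φ t) s
    have e21 := comm_of_commTerms (lt1 j) (lt2 i) c21.1 c21.2.1 (c21.2.2 h) t ((ep i : K) * φ s)
    unfold X
    have h1 := prod_comm (z1 := 1) (z2 := 1) (by rw [mul_one]; exact e11) (by rw [mul_one]; exact e22) e12 e21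
      (by rw [one_mul, mul_one]) (by rw [one_mul, mul_one])
    rwa [mul_one, mul_one] at h1

/-! ### The twisted group -/

theorem X_fix (hφφ : ∀ t, φ (φ t) = t) (i : Fin 6) (t : K) : X φ i t ∈ fix φ := by
  obtain ⟨h1, h2, h3, h4⟩ := rho_spec i
  have h3' : ChevalleyStructure.GraphSymm.symmE6.ε (P i).1 = ep i := h3
  have h4' : ChevalleyStructure.GraphSymm.symmE6.ε (P i).2 = ep i := h4
  have hee : ((ep i : K) * (ep i : K)) = 1 := by exact_mod_cast congrArg (Int.cast : ℤ → K) (ep_sq i)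
  rw [mem_fix]
  unfold X
  rw [map_mul, sg_x, sg_x, h1, h2, h3', h4', map_mul, map_intCast, hφφ, ← mul_assoc, hee, one_mul]
  exact c_in i t _

theorem th_fix {t : K} (ht : φ t = t) : x 71 t ∈ fix φ := by
  have h := sg_x φ 71 t
  have h2 : ChevalleyStructure.GraphSymm.symmE6.ε (71 : Fin 72) = 1 := th_spec.2
  rw [th_spec.1, h2, Int.cast_one, one_mul, ht] at h
  exact h

section

variable {q : ℕ} (hφ : ∀ t, φ t = t ^ q) (hqq : ∀ t : K, (t ^ q) ^ q = t)

include hφ hqq

theorem hφφ (t : K) : φ (φ t) = t := by rw [hφ, hφ, hqq]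

theorem X_mem (i : Fin 6) (t : K) : X φ i t ∈ twistedE6 K q :=
  mem_tw φ hφ hqq (wd i) (wd_spec i) (mul_mem (x_mem_rs (by simp) _) (x_mem_rs (by simp) _))
    (X_fix (hφφ hφ hqq) i t)

theorem th_mem {t : K} (ht : φ t = t) : x 71 t ∈ twistedE6 K q :=
  mem_tw φ hφ hqq _ th_word (x_mem_rs (by simp) _) (th_fix ht)

end

/-- the fixed field, additively -/
def FA (φ : K →+* K) : AddSubgroup K where
  carrier := {t | φ t = t}
  zero_mem' := map_zero φ
  add_mem' := fun {a b} ha hb => by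
    show φ (a + b) = a + b
    rw [map_add, show φ a = a from ha, show φ b = b from hb]
  neg_mem' := fun {a} ha => by
    show φ (-a) = -a
    rw [map_neg, show φ a = a from ha]

theorem card_FA [Fintype K] {q : ℕ} (hq : 1 < q) (hK : Fintype.card K = q ^ 2) (hφ : ∀ t, φ t = t ^ q) :
    Nat.card (FA φ) = q := by
  rw [← ChevalleyStructure.FixedCard.card_fixed (K := K) hq hK]
  refine Nat.card_congr (Equiv.subtypeEquivRight fun t => ?_)
  show φ t = t ↔ _
  rw [hφ]

/-- the trace is onto -/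
theorem exists_trace [Fintype K] {q : ℕ} (hq : 1 < q) (hK : Fintype.card K = q ^ 2) (hφ : ∀ t, φ t = t ^ q)
    (hφφ : ∀ t, φ (φ t) = t) {a : K} (ha : φ a = a) : ∃ w : K, w + φ w = a := by
  classical
  -- some trace is not zero
  obtain ⟨w, hw⟩ : ∃ w : K, w + φ w ≠ 0 := by
    by_contra hcon
    push Not at hcon
    have h1 : (1 : K) + 1 = 0 := by have := hcon 1; rwa [map_one] at this
    have h2 : ∀ t : K, φ t = t := fun t => by
      have h3 := hcon t
      have h4 : t + t = 0 := by rw [← two_mul, show (2 : K) = 1 + 1 by norm_num, h1, zero_mul]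
      exact add_left_cancel (h3.trans h4.symm)
    have h5 : Nat.card (FA φ) = Nat.card K := by
      have : FA φ = ⊤ := by
        ext t
        exact ⟨fun _ => trivial, fun _ => h2 t⟩
      rw [this]
      exact Nat.card_congr (Equiv.Set.univ K)
    rw [card_FA hq hK hφ, Nat.card_eq_fintype_card, hK] at h5
    nlinarith
  have hc : φ (w + φ w) = w + φ w := by rw [map_add, hφφ, add_comm]
  refine ⟨a / (w + φ w) * w, ?_⟩
  rw [map_mul, map_div₀, ha, hc, ← mul_add, div_mul_cancel₀ _ hw]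

/-- The special group. -/
noncomputable def sp [Fintype K] {q : ℕ} (hq : 1 < q) (hK : Fintype.card K = q ^ 2) (hφ : ∀ t, φ t = t ^ q)
    (hqq : ∀ t : K, (t ^ q) ^ q = t) : Sp ↥(twistedE6 K q) (fun _ : Fin 6 => K) (FA φ) where
  x := fun i t => ⟨X φ i t, X_mem hφ hqq i t⟩
  z := fun a => ⟨x 71 (a : K), th_mem hφ hqq a.2⟩
  x_add := fun i s t => Subtype.ext (X_add i s t)
  z_add := fun a b => Subtype.ext (ChevalleyStructure.TwE6Basic.x_add 71 (a : K) b).symm
  z_inj := fun a h => Subtype.ext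
    ((ChevalleyStructure.TwE6Basic.x_eq_one_iff (by norm_num) (a : K)).1 (congrArg Subtype.val h))
  x_z := fun i t a => Subtype.ext (X_th i t (a : K))
  b := fun i j s t => ⟨if j = op i then (ka i : K) * (s * t + φ (s * t)) else 0, by
    show φ _ = _
    split_ifs
    · rw [map_mul, map_intCast, map_add, hφφ hφ hqq, add_comm]
    · exact map_zero φ⟩
  b_add_left := fun i j s s' t => by
    apply Subtype.ext
    show (if j = op i then (ka i : K) * ((s + s') * t + φ ((s + s') * t)) else 0) =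
      (if j = op i then (ka i : K) * (s * t + φ (s * t)) else 0) +
      (if j = op i then (ka i : K) * (s' * t + φ (s' * t)) else 0)
    split_ifs
    · rw [add_mul, map_add]; ring
    · rw [add_zero]
  b_add_right := fun i j s t t' => by
    apply Subtype.ext
    show (if j = op i then (ka i : K) * (s * (t + t') + φ (s * (t + t'))) else 0) =
      (if j = op i then (ka i : K) * (s * t + φ (s * t)) else 0) +
      (if j = op i then (ka i : K) * (s * t' + φ (s * t')) else 0)
    split_ifs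
    · rw [mul_add s, map_add]; ring
    · rw [add_zero]
  x_comm := fun i j s t => Subtype.ext (X_comm i j s t)
  opp := op
  b_opp := fun i s hs a => by
    obtain ⟨w, hw⟩ := exists_trace hq hK hφ (hφφ hφ hqq) (a := (ka i : K) * (a : K)) (by
      rw [map_mul, map_intCast, show φ (a : K) = a from a.2])
    refine ⟨w / s, ?_⟩
    apply Subtype.ext
    show (if op i = op i then (ka i : K) * (s * (w / s) + φ (s * (w / s))) else 0) = (a : K)
    have hkk : ((ka i : K) * (ka i : K)) = 1 := by exact_mod_cast congrArg (Int.cast : ℤ → K) (ka_sq i)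
    rw [if_pos rfl, mul_div_cancel₀ w hs, hw, ← mul_assoc, hkk, one_mul]
  b_zero := fun i k hk s t => by
    apply Subtype.ext
    show (if op i = op k then (ka k : K) * (s * t + φ (s * t)) else 0) = 0
    rw [if_neg]
    intro h
    apply hk
    rw [← op_op k, ← h, op_op]

theorem z_isConj {q : ℕ} (hφ : ∀ t, φ t = t ^ q) (hqq : ∀ t : K, (t ^ q) ^ q = t) {a b : K} (ha : φ a = a)
    (hb : φ b = b) (ha0 : a ≠ 0) (hb0 : b ≠ 0) :
    IsConj (⟨x 71 a, th_mem hφ hqq ha⟩ : ↥(twistedE6 K q)) ⟨x 71 b, th_mem hφ hqq hb⟩ := by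
  have h1 := Cfsg.Agent.S1032.result (F := K) chevE6 hE6 1 71 (by decide +kernel) (by decide +kernel) (b / a)
    (div_ne_zero hb0 ha0) a
  have hcart : chevE6.cartan 1 71 = 1 := by decide +kernel
  rw [hcart, zpow_one, div_mul_cancel₀ _ ha0] at h1
  have hsimple : chevE6.simple 1 = 46 := by decide +kernel
  have hneg : chevE6.neg 46 = 25 := by decide +kernel
  rw [hsimple] at h1
  have hmem : hG hE6 46 (b / a) ∈ twistedE6 K q := by
    have hc : ∀ c : K, φ c = c → c ^ q = c := fun c hc => by rw [← hφ, hc]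
    have hn : ∀ c : K, φ c = c → nG hE6 46 c ∈ twistedE6 K q := fun c h => by
      rw [nG_def, hneg]
      refine mul_mem (single_mem (hc c h) (by simp)) (mul_mem (single_mem (hc _ ?_) (by simp))
        (single_mem (hc c h) (by simp)))
      rw [map_neg, map_inv₀, h]
    rw [hG_def]
    exact mul_mem (hn _ (by rw [map_div₀, ha, hb])) (hn _ (by rw [map_neg, map_one]))
  rw [isConj_iff]
  refine ⟨⟨_, hmem⟩, ?_⟩
  rw [mul_inv_eq_iff_eq_mul]
  apply Subtype.ext
  apply Units.ext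
  show (hG hE6 46 (b / a) * x 71 a : GL chevE6.Idx K).val = (x 71 b * hG hE6 46 (b / a) : GL chevE6.Idx K).val
  rw [Units.val_mul, Units.val_mul, coe_hG]
  exact h1

/-- **The index bound.** -/
theorem pow_seven_le [Fintype K] {q : ℕ} (hq : IsPrimePow q) (hK : Fintype.card K = q ^ 2)
    (hs : IsSimpleGroup ↥(twistedE6 K q)) (H : Subgroup ↥(twistedE6 K q)) (hH : H ≠ ⊤) : q ^ 7 ≤ H.index := by
  have : Finite (GL chevE6.Idx K) := inferInstance
  obtain ⟨φ, hφ, hqq⟩ := exists_frob hq hK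
  have h := (sp hq.one_lt hK hφ hqq).index_sq (MonoidHom.id _) hH (a0 := ⟨1, map_one φ⟩)
    (fun a b ha hb => z_isConj hφ hqq a.2 b.2 (fun h => ha (Subtype.ext h)) (fun h => hb (Subtype.ext h)))
    (fun h => by
      have h1 : x 71 (1 : K) = 1 := congrArg Subtype.val h
      exact one_ne_zero ((ChevalleyStructure.TwE6Basic.x_eq_one_iff (by norm_num) (1 : K)).1 h1))
  rw [Finset.prod_const, Finset.card_univ, Fintype.card_fin, Nat.card_eq_fintype_card (α := K), hK,
    card_FA hq.one_lt hK hφ] at h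
  have h2 : q * ((q ^ 2) ^ 6 * q) = (q ^ 7) ^ 2 := by ring
  rw [h2] at h
  exact (Nat.pow_le_pow_iff_left (by norm_num)).1 h

theorem twE6 [Fintype K] {q : ℕ} (hq : IsPrimePow q) (hK : Fintype.card K = q ^ 2)
    (hs : IsSimpleGroup ↥(twistedE6 K q)) : IdxOK ↥(twistedE6 K q) := by
  have : Finite (GL chevE6.Idx K) := inferInstance
  have hb := pow_seven_le hq hK hs
  have hcard := S1066.result (K := K) hq hK
  obtain ⟨p, f, hp, hf, rfl⟩ := (isPrimePow_nat_iff _).1 hq
  have : Fact p.Prime := ⟨hp⟩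
  have hcp : CharP K p := by
    obtain ⟨p', hp'⟩ := CharP.exists K
    obtain ⟨k, hpp, hk⟩ := FiniteField.card K p'
    have h1 : p' ∣ p := hpp.dvd_of_dvd_pow (n := f * 2) (by
      rw [pow_mul, ← hK, hk]; exact dvd_pow_self p' k.pos.ne')
    rwa [← (Nat.prime_dvd_prime_iff_eq hpp hp).1 h1]
  have hout := S2130.result p f (by rw [hK, ← pow_mul, mul_comm]) hf
  set q := p ^ f with hqd
  have hq2 : 2 ≤ q := hq.one_lt
  have ho : Nat.card (Cfsg.Out ↥(twistedE6 K q)) ≤ 6 * q := by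
    rw [hout]
    have h1 : Nat.gcd 3 (q + 1) ≤ 3 := Nat.gcd_le_left _ (by norm_num)
    calc 2 * Nat.gcd 3 (q + 1) * f ≤ 2 * 3 * q := Nat.mul_le_mul (Nat.mul_le_mul_left _ h1) (le_pow hp)
      _ = _ := by ring
  have ht : Nat.card ↥(twistedE6 K q) ≤ q ^ 78 := by
    have h0 : 1 ≤ Nat.gcd 3 (q + 1) := Nat.gcd_pos_of_pos_left _ (by norm_num)
    have e : ∀ a b : ℕ, a ≤ b → (q ^ a - 1) * (q ^ b + 1) ≤ q ^ a * q ^ b := by
      intro a b hab
      have h1 : 1 ≤ q ^ a := Nat.one_le_pow _ _ (by omega)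
      have h2 : q ^ a ≤ q ^ b := Nat.pow_le_pow_right (by omega) hab
      obtain ⟨r, hr⟩ : ∃ r, q ^ a = r + 1 := ⟨q ^ a - 1, by omega⟩
      rw [hr, Nat.add_sub_cancel]
      calc r * (q ^ b + 1) = r * q ^ b + r := by ring
        _ ≤ r * q ^ b + q ^ b := Nat.add_le_add_left (by omega) _
        _ = _ := by ring
    calc Nat.card ↥(twistedE6 K q) ≤ Nat.gcd 3 (q + 1) * Nat.card ↥(twistedE6 K q) := Nat.le_mul_of_pos_left _ h0
      _ = q ^ 36 * ((q ^ 2 - 1) * (q ^ 5 + 1)) * (q ^ 6 - 1) * ((q ^ 8 - 1) * (q ^ 9 + 1)) * (q ^ 12 - 1) := by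
        rw [hcard]; ring
      _ ≤ q ^ 36 * (q ^ 2 * q ^ 5) * q ^ 6 * (q ^ 8 * q ^ 9) * q ^ 12 := by
        gcongr ?_ * ?_ * ?_ * ?_ * ?_
        · exact le_rfl
        · exact e 2 5 (by norm_num)
        · exact Nat.sub_le _ _
        · exact e 8 9 (by norm_num)
        · exact Nat.sub_le _ _
      _ = q ^ 78 := by ring
  refine of_pow (q := q) (N := 82) (b := q ^ 7) (by omega) ?_ hb ?_
  · calc _ ≤ (6 * q) * q ^ 78 := Nat.mul_le_mul ho ht
      _ ≤ (q ^ 3 * q) * q ^ 78 := by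
        have h3 : 2 ^ 3 ≤ q ^ 3 := Nat.pow_le_pow_left hq2 3
        gcongr
        omega
      _ = q ^ 82 := by ring
  · rcases Nat.lt_or_ge q 3 with h4 | h4
    · have : q = 2 := by omega
      rw [this]; norm_num
    · have h5 : 3 ^ 6 * q ≤ q ^ 7 := by
        rw [pow_succ]
        exact Nat.mul_le_mul_right _ (Nat.pow_le_pow_left h4 6)
      omega

theorem row : RowOf (fun T _ => Cfsg.Lie.Iso2E6 T) := by
  rintro T _ _ _ hT ⟨K, _, _, q, hq, hK, ⟨e⟩⟩
  exact RowsA.of_equiv hT e fun h _ => twE6 hq hK h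

end Cfsg.Agent.H599.IdxE6T
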