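import Mathlib
import Cfsg.Prelude.Def_Characters

/-!
# Finite groups of unitary matrices: elements near a scalar commute

`Inv ρ φ` : `φ : V → E` is an injective linear map into an inner product space such that the
pulled back inner product is `G`-invariant.

* `exists_inv` : existence of an invariant inner product.
* `eigen_norm_sub_le` : if all eigenvalues of `ρ x` are at distance at most `q` from `c`, then
  `‖ρ x - c‖ ≤ q`.
* `comm_of_near` : if `‖ρ x - c‖ < 1/2` and `‖ρ y - 1‖ < √2` then `x` and `y` commute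
  (Frobenius, Blichfeldt).
-/

set_option autoImplicit false

namespace Cfsg.Agent.H599.Unitary

open Module

variable {G : Type*} [Group G] {V : Type*} [AddCommGroup V] [Module ℂ V]
  {E : Type*} [NormedAddCommGroup E] [InnerProductSpace ℂ E]

/-- `φ` embeds `V` in an inner product space, the induced inner product is invariant. -/
def Inv (ρ : Representation ℂ G V) (φ : V →ₗ[ℂ] E) : Prop :=
  Function.Injective φ ∧ ∀ g v w, inner ℂ (φ (ρ g v)) (φ (ρ g w)) = inner ℂ (φ v) (φ w)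

theorem exists_inv [Fintype G] {n : ℕ} (ρ : Representation ℂ G (Fin n → ℂ)) :
    ∃ φ : (Fin n → ℂ) →ₗ[ℂ] EuclideanSpace ℂ (G × Fin n), Inv ρ φ := by
  refine ⟨{ toFun := fun v => WithLp.toLp 2 (fun p => ρ p.1 v p.2),
            map_add' := ?_,
            map_smul' := ?_ }, ?_, ?_⟩
  · intro v w
    ext p
    simp
  · intro c v
    ext p
    simp
  · intro v w h
    funext i
    have h1 := congrArg (fun f : EuclideanSpace ℂ (G × Fin n) => f (1, i)) h
    simpa using h1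
  · intro g v w
    simp only [LinearMap.coe_mk, AddHom.coe_mk, PiLp.inner_apply, Fintype.sum_prod_type]
    refine Fintype.sum_equiv (Equiv.mulRight g) _ _ fun x => ?_
    refine Finset.sum_congr rfl fun i _ => ?_
    simp only [Equiv.coe_mulRight, map_mul, Module.End.mul_apply]

section

variable {ρ : Representation ℂ G V} {φ : V →ₗ[ℂ] E}

theorem Inv.norm (h : Inv ρ φ) (g : G) (v : V) : ‖φ (ρ g v)‖ = ‖φ v‖ := by
  have h1 := h.2 g v v
  rw [inner_self_eq_norm_sq_to_K, inner_self_eq_norm_sq_to_K] at h1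
  have h2 : ‖φ (ρ g v)‖ ^ 2 = ‖φ v‖ ^ 2 := by exact_mod_cast h1
  exact (pow_left_inj₀ (norm_nonneg _) (norm_nonneg _) two_ne_zero).1 h2

theorem Inv.norm_pos (h : Inv ρ φ) {v : V} (hv : v ≠ 0) : 0 < ‖φ v‖ := by
  rw [norm_pos_iff]
  intro h0
  exact hv (h.1 (by rw [h0, map_zero]))

theorem Inv.norm_eigen (h : Inv ρ φ) {g : G} {v : V} {a : ℂ} (hv : v ≠ 0)
    (ha : ρ g v = a • v) : ‖a‖ = 1 := by
  have h1 := h.norm g v
  rw [ha, map_smul, norm_smul] at h1
  have h2 := h.norm_pos hv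
  exact mul_right_cancel₀ h2.ne' (by rw [h1, one_mul])

theorem Inv.orth (h : Inv ρ φ) {g : G} {v w : V} {a b : ℂ} (ha : ρ g v = a • v)
    (hb : ρ g w = b • w) (hab : a ≠ b) : inner ℂ (φ v) (φ w) = 0 := by
  by_cases hv : v = 0
  · rw [hv, map_zero, inner_zero_left]
  by_contra hne
  have h1 := h.2 g v w
  rw [ha, hb, map_smul, map_smul, inner_smul_left, inner_smul_right, ← mul_assoc] at h1
  have h2 : (starRingEnd ℂ) a * b = 1 := mul_right_cancel₀ hne (by rw [h1, one_mul])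
  have h3 : (starRingEnd ℂ) a * a = 1 := by
    rw [mul_comm, Complex.mul_conj, Complex.normSq_eq_norm_sq, h.norm_eigen hv ha]
    simp
  have h4 : (starRingEnd ℂ) a ≠ 0 := left_ne_zero_of_mul_eq_one h3
  exact hab (mul_left_cancel₀ h4 (by rw [h3, h2]))

theorem norm_sum_sq {ι : Type*} (s : Finset ι) (u : ι → E)
    (h : ∀ i ∈ s, ∀ j ∈ s, i ≠ j → inner ℂ (u i) (u j) = 0) :
    ‖∑ i ∈ s, u i‖ ^ 2 = ∑ i ∈ s, ‖u i‖ ^ 2 := by
  classical
  induction s using Finset.induction_on with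
  | empty => simp
  | insert a s ha ih =>
    rw [Finset.sum_insert ha, Finset.sum_insert ha, ← ih (fun i hi j hj hij =>
      h i (Finset.mem_insert_of_mem hi) j (Finset.mem_insert_of_mem hj) hij)]
    have h1 : inner ℂ (u a) (∑ i ∈ s, u i) = 0 := by
      rw [inner_sum]
      refine Finset.sum_eq_zero fun i hi => ?_
      exact h a (Finset.mem_insert_self _ _) i (Finset.mem_insert_of_mem hi)
        (fun h' => ha (h' ▸ hi))
    have h2 := norm_add_sq (𝕜 := ℂ) (u a) (∑ i ∈ s, u i)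
    rw [h2, h1]
    simp

/-- eigenvector decomposition -/
theorem exists_eigen_sum [FiniteDimensional ℂ V] (f : Module.End ℂ V) {n : ℕ} (hn : n ≠ 0)
    (hf : f ^ n = 1) (v : V) : ∃ (s : Finset ℂ) (u : ℂ → V), (∀ a ∈ s, f (u a) = a • u a) ∧
      ∑ a ∈ s, u a = v := by
  classical
  have hss : Module.End.IsSemisimple f := by
    refine Module.End.isSemisimple_of_squarefree_aeval_eq_zero (p := Polynomial.X ^ n - 1) ?_ ?_
    · have : (n : ℂ) ≠ 0 := by exact_mod_cast hn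
      have h := Polynomial.separable_X_pow_sub_C (1 : ℂ) this one_ne_zero
      rw [map_one] at h
      exact h.squarefree
    · simp [hf]
  have htop := hss.iSup_eigenspace_eq_top
  have hv : v ∈ ⨆ μ : ℂ, Module.End.eigenspace f μ := by rw [htop]; trivial
  rw [Submodule.mem_iSup_iff_exists_finsupp] at hv
  obtain ⟨u, hu, hsum⟩ := hv
  refine ⟨u.support, u, fun a _ => ?_, hsum⟩
  exact Module.End.mem_eigenspace_iff.1 (hu a)

theorem eigen_norm_sub_le [FiniteDimensional ℂ V] [Finite G] (h : Inv ρ φ) (x : G) (c : ℂ) (q : ℝ)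
    (hq : 0 ≤ q) (hx : ∀ (a : ℂ) (v : V), v ≠ 0 → ρ x v = a • v → ‖a - c‖ ≤ q) (v : V) :
    ‖φ (ρ x v - c • v)‖ ≤ q * ‖φ v‖ := by
  classical
  obtain ⟨s, u, hu, rfl⟩ := exists_eigen_sum (ρ x) (n := Nat.card G) Nat.card_pos.ne'
    (by rw [← map_pow, pow_card_eq_one', map_one]) v
  have h1 : ρ x (∑ a ∈ s, u a) - c • (∑ a ∈ s, u a) = ∑ a ∈ s, (a - c) • u a := by
    rw [map_sum, Finset.smul_sum, ← Finset.sum_sub_distrib]
    refine Finset.sum_congr rfl fun a ha => ?_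
    rw [hu a ha, sub_smul]
  rw [h1]
  have horth : ∀ a ∈ s, ∀ b ∈ s, a ≠ b → inner ℂ (φ (u a)) (φ (u b)) = 0 := fun a ha b hb hab =>
    h.orth (hu a ha) (hu b hb) hab
  have h2 : ‖φ (∑ a ∈ s, u a)‖ ^ 2 = ∑ a ∈ s, ‖φ (u a)‖ ^ 2 := by
    rw [map_sum, norm_sum_sq s (fun a => φ (u a)) horth]
  have h3 : ‖φ (∑ a ∈ s, (a - c) • u a)‖ ^ 2 = ∑ a ∈ s, ‖a - c‖ ^ 2 * ‖φ (u a)‖ ^ 2 := by
    rw [map_sum, norm_sum_sq s (fun a => φ ((a - c) • u a))]
    · refine Finset.sum_congr rfl fun a _ => ?_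
      rw [map_smul, norm_smul, mul_pow]
    · intro a ha b hb hab
      show inner ℂ (φ ((a - c) • u a)) (φ ((b - c) • u b)) = 0
      rw [map_smul, map_smul, inner_smul_left, inner_smul_right, horth a ha b hb hab, mul_zero,
        mul_zero]
  have h4 : ‖φ (∑ a ∈ s, (a - c) • u a)‖ ^ 2 ≤ (q * ‖φ (∑ a ∈ s, u a)‖) ^ 2 := by
    rw [h3, mul_pow, h2, Finset.mul_sum]
    refine Finset.sum_le_sum fun a ha => ?_
    by_cases hua : u a = 0
    · rw [hua, map_zero, norm_zero]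
      simp
    · have := hx a (u a) hua (hu a ha)
      gcongr
  exact (pow_le_pow_iff_left₀ (norm_nonneg _) (by positivity) two_ne_zero).1 h4

theorem comm_of_rep_eq (hρ : Function.Injective ρ) {x y : G} (h : ρ (x * y) = ρ (y * x)) :
    x * y = y * x := hρ h

/-- Frobenius' lemma: if `x` commutes with `y x y⁻¹` and `‖ρ y - 1‖ < √2`, then `x` and `y`
commute. -/
theorem comm_of_comm_conj [FiniteDimensional ℂ V] [Finite G] (h : Inv ρ φ)
    (hρ : Function.Injective ρ) {x y : G} (hxy : x * (y * x * y⁻¹) = (y * x * y⁻¹) * x)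
    {s : ℝ} (hs : s < √2) (hy : ∀ v, ‖φ (ρ y v - v)‖ ≤ s * ‖φ v‖) : x * y = y * x := by
  classical
  -- `z = (y x y⁻¹) x⁻¹`
  set z : G := (y * x * y⁻¹) * x⁻¹ with hz
  have hzx : x * z = z * x := by
    rw [hz, ← mul_assoc, hxy]
    group
  by_contra hne
  have hz1 : z ≠ 1 := by
    intro h1
    apply hne
    rw [hz, mul_inv_eq_one, mul_inv_eq_iff_eq_mul] at h1
    exact h1.symm
  -- an eigenvalue of `z` different from `1`
  obtain ⟨ζ, hζ, hW⟩ : ∃ ζ : ℂ, ζ ≠ 1 ∧ ∃ v : V, v ≠ 0 ∧ ρ z v = ζ • v := by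
    by_contra hcon
    push Not at hcon
    apply hz1
    apply hρ
    rw [map_one]
    refine LinearMap.ext fun v => ?_
    obtain ⟨s, u, hu, rfl⟩ := exists_eigen_sum (ρ z) (n := Nat.card G) Nat.card_pos.ne'
      (by rw [← map_pow, pow_card_eq_one', map_one]) v
    rw [map_sum, Module.End.one_apply]
    refine Finset.sum_congr rfl fun a ha => ?_
    by_cases ha1 : a = 1
    · rw [hu a ha, ha1, one_smul]
    · by_cases hu0 : u a = 0
      · rw [hu0, map_zero]
      · exact absurd (hu a ha) (hcon a ha1 (u a) hu0)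
  let W : Submodule ℂ V := Module.End.eigenspace (ρ z) ζ
  have hWmem : ∀ v, v ∈ W ↔ ρ z v = ζ • v := fun v => Module.End.mem_eigenspace_iff
  have hWx : ∀ v ∈ W, ρ x v ∈ W := by
    intro v hv
    rw [hWmem] at hv ⊢
    have h1 : ρ z (ρ x v) = ρ x (ρ z v) := by
      rw [← Module.End.mul_apply, ← map_mul, ← hzx, map_mul, Module.End.mul_apply]
    rw [h1, hv, map_smul]
  have : Nontrivial W := by
    obtain ⟨v, hv0, hv⟩ := hW
    exact ⟨⟨⟨v, (hWmem v).2 hv⟩, 0, fun h' => hv0 (congrArg Subtype.val h')⟩⟩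
  obtain ⟨l, hl⟩ := Module.End.exists_eigenvalue ((ρ x).restrict hWx)
  obtain ⟨w, hw⟩ := hl.exists_hasEigenvector
  have hw1 : ρ x (w : V) = l • (w : V) := congrArg Subtype.val hw.apply_eq_smul
  have hw0 : (w : V) ≠ 0 := fun h0 => hw.2 (Subtype.ext h0)
  have hw2 : ρ z (w : V) = ζ • (w : V) := (hWmem _).1 w.2
  have hl0 : l ≠ 0 := by
    intro h0
    have := h.norm_eigen hw0 hw1
    rw [h0, norm_zero] at this
    exact zero_ne_one this
  -- `w' = y⁻¹ w` is an eigenvector of `x` for the eigenvalue `ζ l`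
  set w' : V := ρ y⁻¹ (w : V) with hw'
  have hyw' : ρ y w' = (w : V) := by
    rw [hw', ← Module.End.mul_apply, ← map_mul, mul_inv_cancel, map_one, Module.End.one_apply]
  have h1 : ρ x w' = (ζ * l) • w' := by
    have h2 : ρ (y * x * y⁻¹) (w : V) = (ζ * l) • (w : V) := by
      have : y * x * y⁻¹ = z * x := by rw [hz]; group
      rw [this, map_mul, Module.End.mul_apply, hw1, map_smul, hw2, smul_smul, mul_comm]
    have h3 : ρ x w' = ρ y⁻¹ (ρ (y * x * y⁻¹) (w : V)) := by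
      rw [hw', ← Module.End.mul_apply, ← map_mul, ← Module.End.mul_apply, ← map_mul]
      congr 2
      group
    rw [h3, h2, map_smul]
  have hne' : ζ * l ≠ l := by
    intro h'
    exact hζ (mul_right_cancel₀ hl0 (by rw [h', one_mul]))
  have horth : inner ℂ (φ w') (φ (w : V)) = 0 := h.orth h1 hw1 hne'
  have h4 : ‖φ (w : V) - φ w'‖ ^ 2 = 2 * ‖φ w'‖ ^ 2 := by
    rw [norm_sub_sq (𝕜 := ℂ)]
    have h5 : inner ℂ (φ (w : V)) (φ w') = 0 := inner_eq_zero_symm.1 horth
    rw [h5]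
    have h6 : ‖φ (w : V)‖ = ‖φ w'‖ := by rw [← hyw', h.norm]
    rw [h6]
    simp
    ring
  have h5 : ‖φ (w : V) - φ w'‖ ≤ s * ‖φ w'‖ := by
    have := hy w'
    rwa [hyw', map_sub] at this
  have hpos : 0 < ‖φ w'‖ := by
    apply h.norm_pos
    intro h0
    apply hw0
    rw [← hyw', h0, map_zero]
  have hs0 : 0 ≤ s := by
    by_contra hs0
    push Not at hs0
    have : s * ‖φ w'‖ < 0 := mul_neg_of_neg_of_pos hs0 hpos
    exact absurd (le_trans (norm_nonneg _) h5) (not_le.2 this)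
  have h6 : ‖φ (w : V) - φ w'‖ ^ 2 ≤ (s * ‖φ w'‖) ^ 2 := by gcongr
  have h7 : s ^ 2 < 2 := by
    have := Real.lt_sqrt hs0 (y := 2)
    exact this.1 hs
  rw [h4, mul_pow] at h6
  have h8 : 0 < ‖φ w'‖ ^ 2 := by positivity
  nlinarith

/-- the norm estimate for commutators -/
theorem norm_commutator_le (h : Inv ρ φ) {x y : G} {c d : ℂ} {q s : ℝ}
    (hx : ∀ v, ‖φ (ρ x v - c • v)‖ ≤ q * ‖φ v‖)
    (hy : ∀ v, ‖φ (ρ y v - d • v)‖ ≤ s * ‖φ v‖) (hq : 0 ≤ q) (hs : 0 ≤ s) (v : V) :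
    ‖φ (ρ (x * y * x⁻¹ * y⁻¹) v - v)‖ ≤ (2 * q * s) * ‖φ v‖ := by
  set w : V := ρ (x⁻¹ * y⁻¹) v with hw
  have hwv : ρ (y * x) w = v := by
    rw [hw, ← Module.End.mul_apply, ← map_mul]
    have : y * x * (x⁻¹ * y⁻¹) = 1 := by group
    rw [this, map_one, Module.End.one_apply]
  have hw2 : ρ (x * y) w = ρ (x * y * x⁻¹ * y⁻¹) v := by
    rw [hw, ← Module.End.mul_apply, ← map_mul]
    congr 2
    group
  have hnw : ‖φ w‖ = ‖φ v‖ := by rw [hw, h.norm]
  have key : ρ (x * y) w - ρ (y * x) w =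
      (ρ x (ρ y w - d • w) - c • (ρ y w - d • w)) - (ρ y (ρ x w - c • w) - d • (ρ x w - c • w)) := by
    simp only [map_mul, Module.End.mul_apply, map_sub, map_smul, smul_sub, smul_smul,
      mul_comm d c]
    abel
  have key2 : ρ (x * y * x⁻¹ * y⁻¹) v - v =
      (ρ x (ρ y w - d • w) - c • (ρ y w - d • w)) -
        (ρ y (ρ x w - c • w) - d • (ρ x w - c • w)) := by
    rw [← key, hw2, hwv]
  rw [key2, map_sub]
  refine (norm_sub_le _ _).trans ?_
  have h1 := hx (ρ y w - d • w)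
  have h2 := hy (ρ x w - c • w)
  have h3 := hx w
  have h4 := hy w
  rw [← hnw]
  calc _ ≤ q * ‖φ (ρ y w - d • w)‖ + s * ‖φ (ρ x w - c • w)‖ := add_le_add h1 h2
    _ ≤ q * (s * ‖φ w‖) + s * (q * ‖φ w‖) := by gcongr
    _ = _ := by ring

/-- **Frobenius, Blichfeldt.** If `‖ρ x - c‖ < 1/2` for some scalar `c` and `‖ρ y - 1‖ < √2`
then `x` and `y` commute. -/
theorem comm_of_near [FiniteDimensional ℂ V] [Finite G] (h : Inv ρ φ)
    (hρ : Function.Injective ρ) {x y : G} {c : ℂ} {q s : ℝ} (hq0 : 0 ≤ q) (hq : q < 1 / 2)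
    (hx : ∀ v, ‖φ (ρ x v - c • v)‖ ≤ q * ‖φ v‖) (hs0 : 0 ≤ s) (hs : s < √2)
    (hy : ∀ v, ‖φ (ρ y v - v)‖ ≤ s * ‖φ v‖) : x * y = y * x := by
  classical
  let Y : ℕ → G := fun k => Nat.rec y (fun _ z => x * z * x⁻¹ * z⁻¹) k
  have hY0 : Y 0 = y := rfl
  have hYs : ∀ k, Y (k + 1) = x * Y k * x⁻¹ * (Y k)⁻¹ := fun k => rfl
  have hbound : ∀ k v, ‖φ (ρ (Y k) v - v)‖ ≤ ((2 * q) ^ k * s) * ‖φ v‖ := by
    intro k
    induction k with
    | zero =>
      intro v
      rw [pow_zero, one_mul, hY0]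
      exact hy v
    | succ k ih =>
      intro v
      rw [hYs]
      have h1 := norm_commutator_le h (x := x) (y := Y k) (c := c) (d := 1) (q := q)
        (s := (2 * q) ^ k * s) hx (by simpa using ih) hq0 (by positivity) v
      refine h1.trans (le_of_eq ?_)
      ring
  have hs_le : ∀ k, (2 * q) ^ k * s ≤ s := by
    intro k
    have : (2 * q) ^ k ≤ 1 := pow_le_one₀ (by positivity) (by linarith)
    nlinarith
  -- eventually `Y k = 1`
  obtain ⟨K, hK⟩ : ∃ K, Y K = 1 := by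
    by_contra hcon
    push Not at hcon
    have hch : ∀ g : G, ∃ v : V, g ≠ 1 → ρ g v - v ≠ 0 := by
      intro g
      by_cases hg : g = 1
      · exact ⟨0, fun h' => absurd hg h'⟩
      · by_contra hc
        push Not at hc
        apply hg
        apply hρ
        rw [map_one]
        refine LinearMap.ext fun v => ?_
        exact sub_eq_zero.1 (hc v).2
    choose v hv using hch
    have : Fintype G := Fintype.ofFinite G
    -- uniform lower bound
    have hδ : ∃ δ : ℝ, 0 < δ ∧ ∀ g : G, g ≠ 1 → δ * ‖φ (v g)‖ < ‖φ (ρ g (v g) - v g)‖ := by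
      have h1 : ∀ g : G, ∃ δ : ℝ, 0 < δ ∧ (g ≠ 1 → ∀ δ' : ℝ, δ' ≤ δ →
          δ' * ‖φ (v g)‖ < ‖φ (ρ g (v g) - v g)‖) := by
        intro g
        by_cases hg : g = 1
        · exact ⟨1, one_pos, fun h' => absurd hg h'⟩
        · have h2 := h.norm_pos (hv g hg)
          refine ⟨‖φ (ρ g (v g) - v g)‖ / (‖φ (v g)‖ + 1), by positivity, fun _ δ' hδ' => ?_⟩
          calc δ' * ‖φ (v g)‖ ≤ ‖φ (ρ g (v g) - v g)‖ / (‖φ (v g)‖ + 1) * ‖φ (v g)‖ := by
                gcongr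
            _ < ‖φ (ρ g (v g) - v g)‖ / (‖φ (v g)‖ + 1) * (‖φ (v g)‖ + 1) := by
                have : 0 < ‖φ (ρ g (v g) - v g)‖ / (‖φ (v g)‖ + 1) := by positivity
                nlinarith
            _ = ‖φ (ρ g (v g) - v g)‖ := by
                field_simp
      choose δ hδ0 hδ1 using h1
      obtain ⟨g₀, hg₀⟩ := Finite.exists_min δ
      exact ⟨δ g₀, hδ0 g₀, fun g hg => hδ1 g hg _ (hg₀ g)⟩
    obtain ⟨δ, hδ0, hδ⟩ := hδ
    have hlim : Filter.Tendsto (fun k : ℕ => (2 * q) ^ k * s) Filter.atTop (nhds 0) := by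
      have := (tendsto_pow_atTop_nhds_zero_of_lt_one (r := 2 * q) (by positivity)
        (by linarith)).mul_const s
      rwa [zero_mul] at this
    obtain ⟨k, hk⟩ := (hlim.eventually (gt_mem_nhds hδ0)).exists
    have h1 := hbound k (v (Y k))
    have h2 := hδ (Y k) (hcon k)
    have h3 : (2 * q) ^ k * s * ‖φ (v (Y k))‖ ≤ δ * ‖φ (v (Y k))‖ := by gcongr
    linarith
  -- backwards
  have hback : ∀ k, x * Y (k + 1) = Y (k + 1) * x → x * Y k = Y k * x := by
    intro k hk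
    refine comm_of_comm_conj h hρ (s := (2 * q) ^ k * s) ?_ ((hs_le k).trans_lt hs) (hbound k)
    rw [hYs] at hk
    have h1 : Commute x (x * Y k * x⁻¹ * (Y k)⁻¹) := hk
    have h2 : Commute x (Y k * x⁻¹ * (Y k)⁻¹) := by
      have h3 : Y k * x⁻¹ * (Y k)⁻¹ = x⁻¹ * (x * Y k * x⁻¹ * (Y k)⁻¹) := by group
      rw [h3]
      exact (Commute.refl x).inv_right.mul_right h1
    have h4 : Y k * x * (Y k)⁻¹ = (Y k * x⁻¹ * (Y k)⁻¹)⁻¹ := by group
    rw [h4]
    exact h2.inv_right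
  have hall : ∀ j, j ≤ K → x * Y (K - j) = Y (K - j) * x := by
    intro j
    induction j with
    | zero =>
      intro _
      rw [Nat.sub_zero, hK, mul_one, one_mul]
    | succ j ih =>
      intro hj
      apply hback
      have : K - (j + 1) + 1 = K - j := by omega
      rw [this]
      exact ih (by omega)
  have := hall K le_rfl
  rwa [Nat.sub_self, hY0] at this

end

end Cfsg.Agent.H599.Unitary
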