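import Mathlib
import Cfsg.Prelude.Def_Characters
import Cfsg.Agent.H599.Unitary

/-!
# Diagonal abelian groups and the pigeonhole principle on the unit circle

* `exists_common_basis` : a representation of a finite abelian group is diagonal in some basis.
* `near_of_eigen` : the elements all of whose eigenvalues have real part `> √3/2` satisfy the
  hypotheses of `Unitary.comm_of_near`.
-/

set_option autoImplicit false

namespace Cfsg.Agent.H599.Arc

open Module Cfsg.Agent.H599.Unitary

/-- Simultaneous diagonalisation. -/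
theorem exists_common_basis {ι V : Type*} [AddCommGroup V] [Module ℂ V] [FiniteDimensional ℂ V]
    (f : ι → Module.End ℂ V) (hcomm : ∀ i j, f i * f j = f j * f i)
    (hfin : ∀ i, ∃ n : ℕ, n ≠ 0 ∧ f i ^ n = 1) :
    ∃ (b : Basis (Fin (finrank ℂ V)) ℂ V) (l : Fin (finrank ℂ V) → ι → ℂ),
      ∀ j i, f i (b j) = l j i • b j := by
  classical
  have hss : ∀ i, Module.End.IsSemisimple (f i) := by
    intro i
    obtain ⟨n, hn, hf⟩ := hfin i
    refine Module.End.isSemisimple_of_squarefree_aeval_eq_zero (p := Polynomial.X ^ n - 1) ?_ ?_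
    · have : (n : ℂ) ≠ 0 := by exact_mod_cast hn
      have h := Polynomial.separable_X_pow_sub_C (1 : ℂ) this one_ne_zero
      rw [map_one] at h
      exact h.squarefree
    · simp [hf]
  have hgen : ∀ i μ, (f i).maxGenEigenspace μ = (f i).eigenspace μ := fun i μ =>
    (hss i).isFinitelySemisimple.maxGenEigenspace_eq_eigenspace μ
  have htop := Module.End.iSup_iInf_maxGenEigenspace_eq_top_of_iSup_maxGenEigenspace_eq_top_of_commute
    f (fun i j _ => hcomm i j) (fun i => by
      have := (hss i).iSup_eigenspace_eq_top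
      rw [← this]
      exact iSup_congr fun μ => hgen i μ)
  have hind := Module.End.independent_iInf_maxGenEigenspace_of_forall_mapsTo f
    (fun i j φ => Module.End.mapsTo_maxGenEigenspace_of_comm (hcomm j i) φ)
  have hint : DirectSum.IsInternal (fun χ : ι → ℂ => ⨅ i, (f i).maxGenEigenspace (χ i)) := by
    rw [DirectSum.isInternal_submodule_iff_iSupIndep_and_iSup_eq_top]
    exact ⟨hind, htop⟩
  let b₀ := hint.collectedBasis (fun χ => Module.finBasis ℂ
    (⨅ i, (f i).maxGenEigenspace (χ i) : Submodule ℂ V))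
  have hb₀ : ∀ j i, f i (b₀ j) = j.1 i • b₀ j := by
    intro j i
    have h1 := hint.collectedBasis_mem (fun χ => Module.finBasis ℂ
      (⨅ i, (f i).maxGenEigenspace (χ i) : Submodule ℂ V)) j
    have h2 := (Submodule.mem_iInf _).1 h1 i
    rw [hgen] at h2
    exact Module.End.mem_eigenspace_iff.1 h2
  have : Fintype (Σ χ : ι → ℂ, Fin (finrank ℂ
      (⨅ i, (f i).maxGenEigenspace (χ i) : Submodule ℂ V))) :=
    FiniteDimensional.fintypeBasisIndex b₀
  have e : (Σ χ : ι → ℂ, Fin (finrank ℂ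
      (⨅ i, (f i).maxGenEigenspace (χ i) : Submodule ℂ V))) ≃ Fin (finrank ℂ V) :=
    Fintype.equivFinOfCardEq (Module.finrank_eq_card_basis b₀).symm
  refine ⟨b₀.reindex e, fun j => (e.symm j).1, fun j i => ?_⟩
  rw [Basis.reindex_apply]
  exact hb₀ _ _

/-- The eigenvalues of a diagonal operator. -/
theorem eigenvalue_mem {ι V : Type*} [AddCommGroup V] [Module ℂ V]
    (b : Basis ι ℂ V) (f : Module.End ℂ V) (l : ι → ℂ) (hb : ∀ i, f (b i) = l i • b i)
    {a : ℂ} {v : V} (hv : v ≠ 0) (ha : f v = a • v) : ∃ i, l i = a := by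
  classical
  obtain ⟨i, hi⟩ : ∃ i, b.repr v i ≠ 0 := by
    by_contra hcon
    push Not at hcon
    apply hv
    apply b.repr.injective
    rw [map_zero]
    ext i
    exact hcon i
  refine ⟨i, ?_⟩
  have h1 : ∀ w : V, b.repr (f w) i = l i * b.repr w i := by
    intro w
    have h2 : ((Finsupp.lapply i).comp b.repr.toLinearMap).comp f =
        (l i) • ((Finsupp.lapply i).comp b.repr.toLinearMap) := by
      refine b.ext fun j => ?_
      simp only [LinearMap.comp_apply, LinearMap.smul_apply, LinearEquiv.coe_coe, hb, map_smul,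
        Basis.repr_self, Finsupp.lapply_apply, smul_eq_mul]
      by_cases hij : j = i
      · rw [hij]
      · rw [Finsupp.single_eq_of_ne (fun h => hij h.symm)]; simp
    have h3 := LinearMap.congr_fun h2 w
    simpa using h3
  have h2 := h1 v
  rw [ha, map_smul, Finsupp.smul_apply, smul_eq_mul] at h2
  exact (mul_right_cancel₀ hi h2).symm

/-- The constant `cos (π / 6)`. -/
noncomputable def cc : ℂ := ((√3 / 2 : ℝ) : ℂ)

theorem norm_sub_cc_lt {a : ℂ} (ha : ‖a‖ = 1) (hre : √3 / 2 < a.re) : ‖a - cc‖ < 1 / 2 := by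
  have h1 : ‖a - cc‖ ^ 2 < (1 / 2) ^ 2 := by
    have h2 : a.re ^ 2 + a.im ^ 2 = 1 := by
      have := Complex.sq_norm a
      rw [ha, Complex.normSq_apply] at this
      nlinarith
    have h3 : √3 ^ 2 = 3 := Real.sq_sqrt (by norm_num)
    have h4 : 0 < √3 := by positivity
    rw [Complex.sq_norm, Complex.normSq_apply]
    simp only [cc, Complex.sub_re, Complex.ofReal_re, Complex.sub_im, Complex.ofReal_im, sub_zero]
    nlinarith
  exact (pow_lt_pow_iff_left₀ (norm_nonneg _) (by norm_num) two_ne_zero).1 h1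

theorem norm_one_sub_cc : ‖cc - 1‖ ≤ 1 / 2 := by
  have h3 : √3 ^ 2 = 3 := Real.sq_sqrt (by norm_num)
  have h4 : 0 < √3 := by positivity
  have h5 : √3 ≤ 2 := by nlinarith
  have h6 : 1 ≤ √3 := by nlinarith
  have : cc - 1 = (((√3 / 2 : ℝ) - 1 : ℝ) : ℂ) := by
    rw [cc]; push_cast; ring
  rw [this, Complex.norm_real, Real.norm_eq_abs, abs_le]
  constructor <;> linarith

/-- finitely many numbers smaller than `1/2` -/
theorem exists_uniform {ι : Type*} [Finite ι] (f : ι → ℝ) (hf : ∀ i, f i < 1 / 2) :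
    ∃ q : ℝ, 0 ≤ q ∧ q < 1 / 2 ∧ ∀ i, f i ≤ q := by
  rcases isEmpty_or_nonempty ι with hι | hι
  · exact ⟨0, le_rfl, by norm_num, fun i => (hι.false i).elim⟩
  · obtain ⟨i₀, hi₀⟩ := Finite.exists_max f
    exact ⟨max 0 (f i₀), le_max_left _ _, max_lt (by norm_num) (hf i₀),
      fun i => (hi₀ i).trans (le_max_right _ _)⟩

section

variable {G : Type*} [Group G] [Finite G] {V : Type*} [AddCommGroup V] [Module ℂ V]
  [FiniteDimensional ℂ V] {E : Type*} [NormedAddCommGroup E] [InnerProductSpace ℂ E]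
  {ρ : Representation ℂ G V} {φ : V →ₗ[ℂ] E}

/-- Elements all of whose eigenvalues are close to `cc`. -/
def IsNear (ρ : Representation ℂ G V) (x : G) : Prop :=
  ∀ (a : ℂ) (v : V), v ≠ 0 → ρ x v = a • v → √3 / 2 < a.re

omit [Finite G] [FiniteDimensional ℂ V] in
theorem IsNear.conj {x : G} (hx : IsNear ρ x) (g : G) : IsNear ρ (g * x * g⁻¹) := by
  intro a v hv h
  refine hx a (ρ g⁻¹ v) ?_ ?_
  · intro h0
    apply hv
    have : ρ g (ρ g⁻¹ v) = v := by
      rw [← Module.End.mul_apply, ← map_mul, mul_inv_cancel, map_one, Module.End.one_apply]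
    rw [← this, h0, map_zero]
  · have : ρ x (ρ g⁻¹ v) = ρ g⁻¹ (ρ (g * x * g⁻¹) v) := by
      rw [← Module.End.mul_apply, ← map_mul, ← Module.End.mul_apply, ← map_mul]
      congr 2
      group
    rw [this, h, map_smul]

theorem exists_eigenbasis (ρ : Representation ℂ G V) (x : G) :
    ∃ (b : Basis (Fin (finrank ℂ V)) ℂ V) (l : Fin (finrank ℂ V) → ℂ),
      ∀ j, ρ x (b j) = l j • b j := by
  obtain ⟨b, l, h⟩ := exists_common_basis (fun _ : Unit => ρ x) (fun _ _ => rfl)
    (fun _ => ⟨Nat.card G, Nat.card_pos.ne', by rw [← map_pow, pow_card_eq_one', map_one]⟩)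
  exact ⟨b, fun j => l j (), fun j => h j ()⟩

theorem near_norm (h : Inv ρ φ) {x : G} (hx : IsNear ρ x) :
    ∃ q : ℝ, 0 ≤ q ∧ q < 1 / 2 ∧ ∀ v, ‖φ (ρ x v - cc • v)‖ ≤ q * ‖φ v‖ := by
  obtain ⟨b, l, hb⟩ := exists_eigenbasis ρ x
  obtain ⟨q, hq0, hq, hql⟩ := exists_uniform (fun i => ‖l i - cc‖) (fun i =>
    norm_sub_cc_lt (h.norm_eigen (b.ne_zero i) (hb i)) (hx _ _ (b.ne_zero i) (hb i)))
  refine ⟨q, hq0, hq, eigen_norm_sub_le h x cc q hq0 fun a v hv ha => ?_⟩
  obtain ⟨i, rfl⟩ := eigenvalue_mem b (ρ x) l hb hv ha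
  exact hql i

theorem comm_of_isNear (h : Inv ρ φ) (hρ : Function.Injective ρ) {x y : G}
    (hx : IsNear ρ x) (hy : IsNear ρ y) : x * y = y * x := by
  obtain ⟨q, hq0, hq, hqx⟩ := near_norm h hx
  obtain ⟨s, hs0, hs, hsy⟩ := near_norm h hy
  refine comm_of_near h hρ (s := s + 1 / 2) hq0 hq hqx (by positivity) ?_ ?_
  · have : (1 : ℝ) < √2 := by
      rw [Real.lt_sqrt (by norm_num)]; norm_num
    linarith
  · intro v
    have h1 : ρ y v - v = (ρ y v - cc • v) + (cc - 1) • v := by
      rw [sub_smul, one_smul]; abel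
    rw [h1, map_add, map_smul]
    refine (norm_add_le _ _).trans ?_
    rw [norm_smul, add_mul]
    have h2 := norm_one_sub_cc
    have h3 := norm_nonneg (φ v)
    have h4 := hsy v
    nlinarith

/-- The subgroup generated by the elements near `1`. -/
def nearSubgroup (ρ : Representation ℂ G V) : Subgroup G := Subgroup.closure {x | IsNear ρ x}

omit [Finite G] [FiniteDimensional ℂ V] in
theorem nearSubgroup_normal (ρ : Representation ℂ G V) : (nearSubgroup ρ).Normal := by
  constructor
  intro n hn g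
  have h1 : (nearSubgroup ρ).map (MulAut.conj g).toMonoidHom ≤ nearSubgroup ρ := by
    rw [nearSubgroup, MonoidHom.map_closure]
    apply Subgroup.closure_mono
    rintro _ ⟨x, hx, rfl⟩
    exact IsNear.conj hx g
  exact h1 ⟨n, hn, rfl⟩

theorem nearSubgroup_comm (h : Inv ρ φ) (hρ : Function.Injective ρ) :
    ∀ x ∈ nearSubgroup ρ, ∀ y ∈ nearSubgroup ρ, x * y = y * x := by
  intro x hx y hy
  have h1 : nearSubgroup ρ ≤ Subgroup.centralizer {x | IsNear ρ x} := by
    rw [nearSubgroup, Subgroup.closure_le]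
    intro a ha
    rw [SetLike.mem_coe, Subgroup.mem_centralizer_iff]
    intro b hb
    exact comm_of_isNear h hρ hb ha
  have h2 : nearSubgroup ρ ≤ Subgroup.centralizer (nearSubgroup ρ : Set G) := by
    conv_lhs => rw [nearSubgroup]
    rw [Subgroup.closure_le]
    intro a ha
    rw [SetLike.mem_coe, Subgroup.mem_centralizer_iff]
    intro b hb
    exact ((Subgroup.mem_centralizer_iff.1 (h1 hb)) a ha).symm
  exact (Subgroup.mem_centralizer_iff.1 (h2 hy)) x hx

/-- The cell of an argument: twelve half open arcs of length `π / 6`. -/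
noncomputable def cell (a : ℂ) : ℤ := ⌈Complex.arg a * 6 / Real.pi⌉

theorem cell_mem (a : ℂ) : cell a ∈ Finset.Ioc (-6 : ℤ) 6 := by
  have hpi := Real.pi_pos
  rw [Finset.mem_Ioc, cell]
  constructor
  · rw [Int.lt_ceil]
    have := Complex.neg_pi_lt_arg a
    rw [lt_div_iff₀ hpi]
    push_cast
    linarith
  · rw [Int.ceil_le]
    have := Complex.arg_le_pi a
    rw [div_le_iff₀ hpi]
    push_cast
    linarith

theorem re_of_cell {a b : ℂ} (ha : ‖a‖ = 1) (hb : ‖b‖ = 1) (hab : cell a = cell b) :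
    √3 / 2 < (a⁻¹ * b).re := by
  have hpi := Real.pi_pos
  have hd : |Complex.arg b - Complex.arg a| < Real.pi / 6 := by
    have h1 := Int.le_ceil (Complex.arg a * 6 / Real.pi)
    have h2 := Int.ceil_lt_add_one (Complex.arg a * 6 / Real.pi)
    have h3 := Int.le_ceil (Complex.arg b * 6 / Real.pi)
    have h4 := Int.ceil_lt_add_one (Complex.arg b * 6 / Real.pi)
    rw [cell, cell] at hab
    rw [hab] at h1 h2
    have h5 : Complex.arg b * 6 / Real.pi - Complex.arg a * 6 / Real.pi < 1 := by linarith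
    have h6 : Complex.arg a * 6 / Real.pi - Complex.arg b * 6 / Real.pi < 1 := by linarith
    rw [← sub_div, div_lt_one hpi] at h5 h6
    rw [abs_lt]
    constructor <;> linarith
  have hea : a = Complex.exp (Complex.arg a * Complex.I) := by
    have := Complex.norm_mul_exp_arg_mul_I a
    rw [ha] at this
    simpa using this.symm
  have heb : b = Complex.exp (Complex.arg b * Complex.I) := by
    have := Complex.norm_mul_exp_arg_mul_I b
    rw [hb] at this
    simpa using this.symm
  have h7 : a⁻¹ * b = Complex.exp (((Complex.arg b - Complex.arg a : ℝ) : ℂ) * Complex.I) := by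
    conv_lhs => rw [hea, heb]
    rw [← Complex.exp_neg, ← Complex.exp_add]
    congr 1
    push_cast
    ring
  rw [h7, Complex.exp_ofReal_mul_I_re, ← Real.cos_abs, ← Real.cos_pi_div_six]
  apply Real.cos_lt_cos_of_nonneg_of_le_pi (abs_nonneg _)
  · linarith
  · exact hd

/-- Pigeonhole: an abelian subgroup meets the near subgroup in a subgroup of index at most
`12 ^ n`. -/
theorem index_le (h : Inv ρ φ) (H : Subgroup G)
    (hH : ∀ x ∈ H, ∀ y ∈ H, x * y = y * x) :
    ((nearSubgroup ρ).subgroupOf H).index ≤ 12 ^ finrank ℂ V := by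
  classical
  obtain ⟨b, l, hb⟩ := exists_common_basis (fun x : H => ρ x)
    (fun x y => by rw [← map_mul, ← map_mul, hH x x.2 y y.2])
    (fun x => ⟨Nat.card G, Nat.card_pos.ne', by
      rw [← map_pow, pow_card_eq_one', map_one]⟩)
  have hnorm : ∀ j (x : H), ‖l j x‖ = 1 := fun j x => h.norm_eigen (b.ne_zero j) (hb j x)
  let f : H → (Fin (finrank ℂ V) → Finset.Ioc (-6 : ℤ) 6) := fun x j => ⟨cell (l j x), cell_mem _⟩
  have hf : ∀ x y : H, f x = f y → (x : G)⁻¹ * (y : G) ∈ nearSubgroup ρ := by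
    intro x y hxy
    apply Subgroup.subset_closure
    intro a v hv ha
    have hb' : ∀ j, ρ ((x : G)⁻¹ * (y : G)) (b j) = ((l j x)⁻¹ * l j y) • b j := by
      intro j
      have h1 : ρ (x : G)⁻¹ (b j) = (l j x)⁻¹ • b j := by
        have h2 : ρ (x : G)⁻¹ (ρ (x : G) (b j)) = b j := by
          rw [← Module.End.mul_apply, ← map_mul, inv_mul_cancel, map_one, Module.End.one_apply]
        rw [hb j x, map_smul] at h2
        have h3 : l j x ≠ 0 := by
          intro h0
          have := hnorm j x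
          rw [h0, norm_zero] at this
          exact zero_ne_one this
        calc ρ (x : G)⁻¹ (b j) = (l j x)⁻¹ • (l j x • ρ (x : G)⁻¹ (b j)) := by
              rw [smul_smul, inv_mul_cancel₀ h3, one_smul]
          _ = _ := by rw [h2]
      rw [map_mul, Module.End.mul_apply, hb j y, map_smul, h1, smul_smul, mul_comm]
    obtain ⟨j, rfl⟩ := eigenvalue_mem b _ _ hb' hv ha
    apply re_of_cell (hnorm j x) (hnorm j y)
    exact congrArg (fun g => ((g j : Finset.Ioc (-6 : ℤ) 6) : ℤ)) hxy
  have hcard : Nat.card (Fin (finrank ℂ V) → Finset.Ioc (-6 : ℤ) 6) = 12 ^ finrank ℂ V := by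
    rw [Nat.card_fun, Nat.card_eq_fintype_card, Nat.card_eq_fintype_card, Fintype.card_fin,
      Fintype.card_coe, Int.card_Ioc]
    rfl
  rw [← hcard, Subgroup.index]
  apply Nat.card_le_card_of_injective (fun q : H ⧸ (nearSubgroup ρ).subgroupOf H =>
    f (Quotient.out q))
  intro q r hqr
  have h1 := hf _ _ hqr
  rw [← Quotient.out_eq q, ← Quotient.out_eq r]
  apply QuotientGroup.eq.2
  exact h1

end

end Cfsg.Agent.H599.Arc
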