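import Mathlib
import Cfsg.Prelude.Def_Characters
import Cfsg.Agent.Characters.Core
import Cfsg.Agent.Characters.Values
import Cfsg.Agent.Characters.GaloisBasic
import Cfsg.Agent.Characters.GaloisIrr

/-!
# Galois conjugates of characters of small degree

`exists_galois` : if `ρ` is faithful of degree `n < p - 1` and `p ∣ |G|` then some Galois
conjugate `χ^(m)`, `m ≡ 1` modulo the `p'`-part of `|G|`, differs from `χ`.

`exists_commuting` : if `ρ` is faithful and irreducible of degree `n`, and `p ≠ q` are primes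
larger than `n + 1` dividing the order of `G` then there are commuting elements of orders
`p`, `q`.
-/

set_option autoImplicit false

namespace Cfsg.Agent.H599.Galois

open Module Cfsg Cfsg.Agent.Characters Cfsg.Agent.Characters.Core
open scoped ComplexConjugate

variable {G : Type*} [Group G] [Finite G] {V : Type*} [AddCommGroup V] [Module ℂ V]
  [FiniteDimensional ℂ V]

/-- A rational number which is an algebraic integer is an integer: quotient form. -/
theorem nat_dvd_of_integral {a b : ℤ} (hb : b ≠ 0) (h : IsIntegral ℤ ((a : ℂ) / (b : ℂ))) :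
    b ∣ a := by
  have h1 : ((a : ℂ) / (b : ℂ)) = ((algebraMap ℚ ℂ) ((a : ℚ) / (b : ℚ))) := by
    simp
  rw [h1] at h
  have h2 : IsIntegral ℤ ((a : ℚ) / (b : ℚ)) :=
    (isIntegral_algebraMap_iff (algebraMap ℚ ℂ).injective).1 h
  obtain ⟨c, hc⟩ := IsIntegrallyClosed.isIntegral_iff.1 h2
  refine ⟨c, ?_⟩
  have hb' : (b : ℚ) ≠ 0 := by exact_mod_cast hb
  have h3 : (c : ℚ) = (a : ℚ) / (b : ℚ) := by simpa using hc
  rw [eq_div_iff hb'] at h3
  have h4 : c * b = a := by exact_mod_cast h3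
  rw [← h4, mul_comm]

theorem exists_galois (ρ : Representation ℂ G V) (hρ : Function.Injective ρ) {p : ℕ}
    (hp : p.Prime) (hn : finrank ℂ V + 1 < p) (hpG : p ∣ Nat.card G) :
    ∃ m : ℕ, m.Coprime (Nat.card G) ∧ (∀ g : G, ¬ p ∣ orderOf g → g ^ m = g) ∧
      ∃ g : G, ρ.character (g ^ m) ≠ ρ.character g := by
  classical
  have := Fact.mk hp
  -- `|G| = p ^ a * b`
  obtain ⟨a, b, hb, hab⟩ := Nat.exists_eq_pow_mul_and_not_dvd (Nat.card_pos (α := G)).ne' p
    hp.one_lt.ne'
  have hcop : (p ^ a).Coprime b :=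
    Nat.Coprime.pow_left a ((Nat.Prime.coprime_iff_not_dvd hp).2 hb)
  have ha : a ≠ 0 := by
    rintro rfl
    rw [pow_zero, one_mul] at hab
    exact hb (hab ▸ hpG)
  -- the multipliers
  have hm : ∀ j : ℕ, ¬ p ∣ j → ∃ m : ℕ, m ≡ j [MOD p ^ a] ∧ m ≡ 1 [MOD b] := fun j _ =>
    ⟨_, (Nat.chineseRemainder hcop j 1).2.1, (Nat.chineseRemainder hcop j 1).2.2⟩
  have hmc : ∀ j m : ℕ, ¬ p ∣ j → m ≡ j [MOD p ^ a] → m ≡ 1 [MOD b] → m.Coprime (Nat.card G) := by
    intro j m hj h1 h2
    rw [hab]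
    apply Nat.Coprime.mul_right
    · apply Nat.Coprime.pow_right
      rw [Nat.coprime_comm, Nat.Prime.coprime_iff_not_dvd hp]
      intro h
      apply hj
      have h3 : m ≡ j [MOD p] := h1.of_dvd (dvd_pow_self p ha)
      exact (h3.dvd_iff dvd_rfl).1 h
    · have h3 := Nat.ModEq.gcd_eq h2
      rw [Nat.Coprime, h3, Nat.gcd_one_left]
  have hreg : ∀ m : ℕ, m ≡ 1 [MOD b] → ∀ g : G, ¬ p ∣ orderOf g → g ^ m = g := by
    intro m h2 g hg
    have h3 : orderOf g ∣ b := by
      have h4 : (orderOf g).Coprime (p ^ a) := by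
        apply Nat.Coprime.pow_right
        rw [Nat.coprime_comm, Nat.Prime.coprime_iff_not_dvd hp]
        exact hg
      apply h4.dvd_of_dvd_mul_left
      rw [← hab]
      exact orderOf_dvd_natCard g
    have h4 : g ^ m = g ^ 1 := by
      rw [pow_eq_pow_iff_modEq]
      exact h2.of_dvd h3
    rw [h4, pow_one]
  by_contra hcon
  push Not at hcon
  obtain ⟨x, hx⟩ := exists_prime_orderOf_dvd_card' p hpG
  have hconst : ∀ j ∈ Finset.Ico 1 p, ρ.character (x ^ j) = ρ.character x := by
    intro j hj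
    rw [Finset.mem_Ico] at hj
    have hj' : ¬ p ∣ j := fun h => by
      have := Nat.le_of_dvd (by omega) h
      omega
    obtain ⟨m, h1, h2⟩ := hm j hj'
    have h3 := hcon m (hmc j m hj' h1 h2) (hreg m h2) x
    have h4 : x ^ m = x ^ j := by
      rw [pow_eq_pow_iff_modEq, hx]
      exact h1.of_dvd (dvd_pow_self p ha)
    rw [← h4, h3]
  obtain ⟨μ, hμ, hμc⟩ := GaloisBasic.exists_fin_pow ρ x hp.ne_zero
    (by rw [← hx]; exact pow_orderOf_eq_one x)
  let f : ℕ := (Finset.univ.filter (fun i => μ i = 1)).card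
  have hsum : ∑ j ∈ Finset.range p, ρ.character (x ^ j) = (p : ℂ) * f := by
    have h1 : ∀ i, ∑ j ∈ Finset.range p, μ i ^ j = if μ i = 1 then (p : ℂ) else 0 := by
      intro i
      split_ifs with h
      · rw [h]; simp
      · have h2 : IsPrimitiveRoot (μ i) p := by
          have := orderOf_eq_prime (hμ i) h
          rw [← this]
          exact IsPrimitiveRoot.orderOf _
        exact h2.geom_sum_eq_zero hp.one_lt
    calc ∑ j ∈ Finset.range p, ρ.character (x ^ j)
        = ∑ j ∈ Finset.range p, ∑ i, μ i ^ j := Finset.sum_congr rfl fun j _ => hμc j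
      _ = ∑ i, ∑ j ∈ Finset.range p, μ i ^ j := Finset.sum_comm
      _ = ∑ i, (if μ i = 1 then (p : ℂ) else 0) := Finset.sum_congr rfl fun i _ => h1 i
      _ = (p : ℂ) * f := by
          rw [← Finset.sum_filter, Finset.sum_const, nsmul_eq_mul, mul_comm]
  have hsum2 : ∑ j ∈ Finset.range p, ρ.character (x ^ j) =
      (finrank ℂ V : ℂ) + ((p : ℂ) - 1) * ρ.character x := by
    rw [Finset.range_eq_Ico, Finset.sum_eq_sum_Ico_succ_bot hp.pos, pow_zero,
      Representation.char_one, Finset.sum_congr rfl hconst, Finset.sum_const, Nat.card_Ico,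
      nsmul_eq_mul, Nat.cast_sub (by have := hp.pos; omega)]
    simp
  have hfn : f ≤ finrank ℂ V := by
    refine (Finset.card_le_univ _).trans ?_
    rw [Fintype.card_fin]
  have hint : IsIntegral ℤ (ρ.character x) := by
    have h1 := hμc 1
    rw [pow_one] at h1
    rw [h1]
    refine IsIntegral.sum _ fun i _ => ?_
    rw [pow_one]
    refine IsIntegral.of_pow hp.pos ?_
    rw [hμ i]
    exact isIntegral_one
  have hval : ρ.character x = (((p : ℤ) * f - (finrank ℂ V : ℤ) : ℤ) : ℂ) / (((p : ℤ) - 1 : ℤ) : ℂ) := by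
    have hp1 : (((p : ℤ) - 1 : ℤ) : ℂ) ≠ 0 := by
      have : ((p : ℤ) - 1) ≠ 0 := by have := hp.one_lt; omega
      exact_mod_cast this
    rw [eq_div_iff hp1]
    push_cast
    rw [← hsum, hsum2]
    ring
  rw [hval] at hint
  have hdvd := nat_dvd_of_integral (by have := hp.one_lt; omega) hint
  have hfn2 : f = finrank ℂ V := by
    obtain ⟨c, hc⟩ := hdvd
    have h1 : ((p : ℤ) - 1) ∣ ((finrank ℂ V : ℤ) - f) := ⟨f - c, by linarith [mul_sub ((p : ℤ) - 1) f c]⟩
    by_contra hne
    have h2 : 0 < (finrank ℂ V : ℤ) - f := by omega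
    have h3 := Int.le_of_dvd h2 h1
    omega
  have hall : ∀ i, μ i = 1 := by
    intro i
    have h1 : (Finset.univ.filter (fun i => μ i = 1)) = Finset.univ :=
      Finset.eq_univ_of_card _ (by rw [Fintype.card_fin]; exact hfn2)
    have h2 : i ∈ Finset.univ.filter (fun i => μ i = 1) := by rw [h1]; exact Finset.mem_univ _
    exact (Finset.mem_filter.1 h2).2
  have hx1 : ρ.character x = (finrank ℂ V : ℂ) := by
    have h1 := hμc 1
    rw [pow_one] at h1
    rw [h1]
    simp [hall]
  have h2 := (Cfsg.Agent.Characters.Values.character_eq_finrank_iff ρ x).1 hx1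
  have h3 : x = 1 := hρ (by rw [h2, map_one]; rfl)
  rw [h3, orderOf_one] at hx
  exact hp.one_lt.ne hx

theorem exists_commuting (ρ : Representation ℂ G V) (hρ : Function.Injective ρ)
    (hirr : ρ.IsIrreducible) {p q : ℕ} (hp : p.Prime) (hq : q.Prime)
    (hnp : finrank ℂ V + 1 < p) (hnq : finrank ℂ V + 1 < q) (hpG : p ∣ Nat.card G)
    (hqG : q ∣ Nat.card G) : ∃ x y : G, x * y = y * x ∧ orderOf x = p ∧ orderOf y = q := by
  classical
  have : Fintype G := Fintype.ofFinite G
  obtain ⟨m, hm, hmreg, g₁, hg₁⟩ := exists_galois ρ hρ hp hnp hpG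
  obtain ⟨l, hl, hlreg, g₂, hg₂⟩ := exists_galois ρ hρ hq hnq hqG
  set χ : G → ℂ := ρ.character with hχ
  have hχi : IsIrrCharacter G χ := isIrrCharacter_of_rep ρ hirr
  have hχ1 : IsIrrCharacter G (fun g => χ (g ^ m)) := GaloisIrr.isIrr_pow hm hχi
  have hχ2 : IsIrrCharacter G (fun g => χ (g ^ l)) := GaloisIrr.isIrr_pow hl hχi
  have hne1 : (fun g => χ (g ^ m)) ≠ χ := fun h => hg₁ (congrFun h g₁)
  have hne2 : (fun g => χ (g ^ l)) ≠ χ := fun h => hg₂ (congrFun h g₂)
  have hinner : classInner (χ - fun g => χ (g ^ m)) (χ - fun g => χ (g ^ l)) ≠ 0 := by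
    rw [classInner_sub_left, classInner_sub_right, classInner_sub_right,
      classInner_irr_self hχi, classInner_irr_ne hχi hχ2 hne2.symm,
      classInner_irr_ne hχ1 hχi hne1, classInner_irr hχ1 hχ2]
    split_ifs <;> norm_num
  obtain ⟨g, hg⟩ : ∃ g, (χ g - χ (g ^ m)) * conj (χ g - χ (g ^ l)) ≠ 0 := by
    by_contra hcon
    push Not at hcon
    apply hinner
    rw [classInner_def, Finset.sum_eq_zero, mul_zero]
    intro g _
    exact hcon g
  have hpg : p ∣ orderOf g := by
    by_contra h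
    apply hg
    rw [hmreg g h, sub_self, zero_mul]
  have hqg : q ∣ orderOf g := by
    by_contra h
    apply hg
    rw [hlreg g h, sub_self, map_zero, mul_zero]
  refine ⟨g ^ (orderOf g / p), g ^ (orderOf g / q), ?_, ?_, ?_⟩
  · rw [← pow_add, ← pow_add, add_comm]
  · exact orderOf_pow_orderOf_div (orderOf_pos g).ne' hpg
  · exact orderOf_pow_orderOf_div (orderOf_pos g).ne' hqg

end Cfsg.Agent.H599.Galois
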