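import Cfsg.Agent.H599.GoodA
import Cfsg.Agent.H713.Spor.RankThree
import Cfsg.Agent.S2342
import Cfsg.Agent.H596.Degree

/-!
# `Good` for `³D₄(2)`
-/

set_option autoImplicit false

namespace Cfsg.Agent.H599.GoodB

open Cfsg Cfsg.Agent.Characters.Core MulAction
open Cfsg.Agent.H713.Spor.RankThree (pc pc_one inner_pc_one)
open Cfsg.Agent.S0157 (isCharacter_fixedBy)

/-- If all nontrivial irreducible characters have degree at least `d`, and `|G : H| ≤ 2 d`, then
`|G : H| - 1` divides `|G|`. -/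
theorem index_sub_one_dvd {G : Type*} [Group G] [Finite G] {d : ℕ}
    (hd : ∀ χ : IrrCharacter G, (χ : G → ℂ) ≠ 1 → d ≤ charDegree (χ : G → ℂ))
    {H : Subgroup G} (hH : H ≠ ⊤) (hlt : H.index ≤ 2 * d) : H.index - 1 ∣ Nat.card G := by
  classical
  have := Fintype.ofFinite G
  have := finite_irr (G := G)
  have := Fintype.ofFinite (IrrCharacter G)
  obtain ⟨m, hm⟩ := exists_nat_comb (isCharacter_fixedBy (G := G) (G ⧸ H))
  have h1 : m ⟨1, isIrr_one⟩ = 1 := by
    have h2 := inner_pc_one (G := G) (G ⧸ H)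
    have h3 : pc G (G ⧸ H) = ∑ ψ : IrrCharacter G, m ψ • (ψ : G → ℂ) := hm
    rw [h3] at h2
    have h4 := classInner_sum_nsmul_irr m ⟨1, isIrr_one⟩
    change classInner (∑ ψ : IrrCharacter G, m ψ • (ψ : G → ℂ)) 1 = _ at h4
    rw [h2] at h4
    exact_mod_cast h4.symm
  have hdeg : H.index = ∑ ψ : IrrCharacter G, m ψ * charDegree (ψ : G → ℂ) := by
    have h2 : pc G (G ⧸ H) 1 = (∑ ψ : IrrCharacter G, m ψ • (ψ : G → ℂ)) 1 := congrFun hm 1
    rw [pc_one, Finset.sum_apply] at h2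
    have h3 : ((H.index : ℕ) : ℂ) = ((∑ ψ : IrrCharacter G, m ψ * charDegree (ψ : G → ℂ) : ℕ) : ℂ) := by
      rw [Subgroup.index, h2]
      push_cast
      refine Finset.sum_congr rfl fun ψ _ => ?_
      rw [Pi.smul_apply, nsmul_eq_mul, Blocks.Basic.irr_one_eq_charDegree ψ.2]
    exact_mod_cast h3
  have hone : charDegree (((⟨1, isIrr_one⟩ : IrrCharacter G)) : G → ℂ) = 1 := by
    have := Blocks.Basic.irr_one_eq_charDegree (isIrr_one (G := G))
    have h2 : ((1 : ℕ) : ℂ) = ((charDegree (1 : G → ℂ) : ℕ) : ℂ) := by rw [← this]; simp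
    exact_mod_cast h2.symm
  obtain ⟨one, hone'⟩ : ∃ one : IrrCharacter G, one = ⟨1, isIrr_one⟩ := ⟨_, rfl⟩
  rw [← hone'] at h1 hone
  obtain ⟨f, hf⟩ : ∃ f : IrrCharacter G → ℕ, f = fun ψ => m ψ * charDegree (ψ : G → ℂ) := ⟨_, rfl⟩
  have hf' : ∀ ψ : IrrCharacter G, f ψ = m ψ * charDegree (ψ : G → ℂ) := fun ψ => by rw [hf]
  have key : ∑ ψ, f ψ = f one + ∑ ψ ∈ Finset.univ.erase one, f ψ :=
    (Finset.add_sum_erase _ f (Finset.mem_univ one)).symm
  have hdeg' : H.index = ∑ ψ, f ψ := by rw [hf]; exact hdeg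
  rw [key, hf', h1, hone] at hdeg'
  have hidx : 1 < H.index := Subgroup.one_lt_index_of_ne_top hH
  obtain ⟨S, hS⟩ : ∃ S : Finset (IrrCharacter G), S = Finset.univ.erase one := ⟨_, rfl⟩
  rw [← hS] at hdeg'
  obtain ⟨ψ, hψ, hne⟩ : ∃ ψ ∈ S, f ψ ≠ 0 := by
    by_contra hcon
    push Not at hcon
    rw [Finset.sum_eq_zero hcon] at hdeg'
    omega
  have hne1 : ∀ x ∈ S, (x : G → ℂ) ≠ 1 := fun x hx h => by
    rw [hS] at hx
    exact (Finset.mem_erase.1 hx).1 (hone' ▸ Subtype.ext h)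
  have hsum : f ψ + ∑ x ∈ S.erase ψ, f x = ∑ x ∈ S, f x := Finset.add_sum_erase _ f hψ
  have hdψ := hd ψ (hne1 ψ hψ)
  have hmψ : m ψ = 1 := by
    have h0 : m ψ ≠ 0 := left_ne_zero_of_mul (hf' ψ ▸ hne)
    by_contra hcon
    have h2 : 2 ≤ m ψ := by omega
    have h3 : 2 * d ≤ f ψ := by rw [hf']; exact Nat.mul_le_mul h2 hdψ
    omega
  have hrest : ∑ x ∈ S.erase ψ, f x = 0 := by
    refine Finset.sum_eq_zero fun x hx => ?_
    by_contra h0
    have hx1 := hne1 x (Finset.mem_erase.1 hx).2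
    have h2 : f x ≤ ∑ x ∈ S.erase ψ, f x :=
      Finset.single_le_sum (f := f) (fun _ _ => Nat.zero_le _) hx
    have h3 : charDegree (x : G → ℂ) ≤ f x := by
      rw [hf'] at h0 ⊢
      exact Nat.le_mul_of_pos_left _ (Nat.pos_of_ne_zero (left_ne_zero_of_mul h0))
    have h4 := hd x hx1
    rw [hf' ψ, hmψ, one_mul] at hsum
    omega
  have hfin : H.index - 1 = charDegree (ψ : G → ℂ) := by
    rw [hf' ψ, hmψ, one_mul, hrest] at hsum
    omega
  rw [hfin]
  exact _root_.Cfsg.Agent.H596.charDegree_dvd_card ψ.2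

/-- Nontrivial irreducible characters of nonabelian simple groups have degree at least two. -/
theorem two_le_charDegree {G : Type*} [Group G] [Finite G] [IsSimpleGroup G] (hna : ¬ IsMulCommutative G)
    {χ : G → ℂ} (hχ : IsIrrCharacter G χ) (h1 : χ ≠ 1) : 2 ≤ charDegree χ := by
  have h0 := Blocks.Basic.charDegree_pos hχ
  by_contra hcon
  have hd : charDegree χ = 1 := by omega
  have h2 : χ 1 = 1 := by rw [Blocks.Basic.irr_one_eq_charDegree hχ, hd]; norm_num
  obtain ⟨f, hf⟩ := Characters.Linear.exists_hom_of_isIrrCharacter hχ h2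
  rcases (MonoidHom.normal_ker f).eq_bot_or_eq_top with h | h
  · apply hna
    refine ⟨⟨fun a b => ?_⟩⟩
    apply (MonoidHom.ker_eq_bot_iff f).1 h
    rw [map_mul, map_mul, mul_comm]
  · apply h1
    rw [hf]
    ext g
    have : g ∈ f.ker := by rw [h]; trivial
    rw [MonoidHom.mem_ker] at this
    simp [this]

theorem td4_two {K : Type} [Field K] [Fintype K] (hK : Fintype.card K = 2 ^ 3)
    (hs : IsSimpleGroup ↥(Lie.twistedD4 K 2)) (hna : ¬ IsMulCommutative ↥(Lie.twistedD4 K 2)) :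
    H540.Good.Good ↥(Lie.twistedD4 K 2) := by
  have hq : IsPrimePow 2 := Nat.prime_two.isPrimePow
  have : Finite (GL Lie.chevD4.Idx K) := inferInstance
  have hcard : Nat.card ↥(Lie.twistedD4 K 2) = 211341312 := (S1067.result (K := K) hq hK).trans (by norm_num)
  have hout : Nat.card (Cfsg.Out ↥(Lie.twistedD4 K 2)) ≤ 3 := GoodA.td4_out hq hK
  have h32 : ∀ H : Subgroup ↥(Lie.twistedD4 K 2), H ≠ ⊤ → 32 ≤ H.index := fun H hH =>
    le_trans (by norm_num) (GoodA.td4_index hq hK hs H hH)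
  have hdeg : ∀ χ : IrrCharacter ↥(Lie.twistedD4 K 2), (χ : ↥(Lie.twistedD4 K 2) → ℂ) ≠ 1 →
      26 ≤ charDegree (χ : ↥(Lie.twistedD4 K 2) → ℂ) := by
    intro χ hχ
    have h2 := two_le_charDegree hna χ.2 hχ
    obtain ⟨n, ρ, hρ, -, hn⟩ := _root_.Cfsg.Agent.H596.exists_rep χ.2
    rw [Module.finrank_fin_fun] at hn
    rw [hn] at h2 ⊢
    have h3 := S2342.result 2 hq hK n ρ hρ h2
    norm_num at h3
    exact h3
  have h48 : ∀ H : Subgroup ↥(Lie.twistedD4 K 2), H ≠ ⊤ → 48 ≤ H.index := by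
    intro H hH
    by_contra hcon
    have h1 := h32 H hH
    have h2 := index_sub_one_dvd hdeg hH (by omega)
    have h3 : H.index ∣ Nat.card ↥(Lie.twistedD4 K 2) := H.index_dvd_card
    rw [hcard] at h2 h3
    push Not at hcon
    generalize H.index = n at h1 h2 h3 hcon
    interval_cases n <;> omega
  refine H540.Good.Good.of_bounds (c := 1 + (211341312 - 1) / 48) (o := 3) (L := 48) ?_ hout h48 (by norm_num)
  have h1 := H539.card_conjClasses_le_div (H539.center_eq_bot hna) (by norm_num) h48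
  rwa [hcard] at h1

end Cfsg.Agent.H599.GoodB
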