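import Mathlib
import Cfsg.Prelude.Def_Characters
import Cfsg.Agent.H599.Mono
import Cfsg.Agent.H599.Hall

/-!
# The counting behind Jordan's theorem
-/

set_option autoImplicit false

namespace Cfsg.Agent.H599.Jordan

open Module Cfsg

universe u

/-- The index of a normal subgroup `A` bounded by local data. -/
theorem index_le {G : Type u} [Group G] [Finite G] (n B : ℕ) (A : Subgroup G)
    (hAB : ∀ H : Subgroup G, (∀ x ∈ H, ∀ y ∈ H, x * y = y * x) → (A.subgroupOf H).index ≤ B)
    (hmono : ∀ (p : ℕ) [Fact p.Prime] (P : Sylow p G), ∃ P₀ : Subgroup G, P₀ ≤ P ∧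
      (∀ x ∈ P₀, ∀ y ∈ P₀, x * y = y * x) ∧ P₀.relIndex P ∣ n.factorial)
    (hhall : Cfsg.Agent.H599.Hall.HallProp n G) :
    A.index ≤ n.factorial * B ^ (Nat.primeCounting (n + 1) + 1) := by
  classical
  set i := A.index with hi
  have hi0 : i ≠ 0 := Subgroup.index_ne_zero_of_finite
  -- small primes
  have hsmall : ∀ p : ℕ, p.Prime → p ^ i.factorization p ≤
      p ^ (n.factorial).factorization p * B := by
    intro p hp
    have := Fact.mk hp
    obtain ⟨P⟩ := (inferInstance : Nonempty (Sylow p G))
    obtain ⟨P₀, hP₀P, hP₀, hP₀n⟩ := hmono p P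
    have h1 : p ^ i.factorization p ∣ A.relIndex P := by
      have h2 : i ∣ (P : Subgroup G).index * A.relIndex P := by
        rw [mul_comm, ← Subgroup.inf_relIndex_right, Subgroup.relIndex_mul_index inf_le_right]
        exact Subgroup.index_dvd_of_le inf_le_left
      have h3 : (p ^ i.factorization p).Coprime (P : Subgroup G).index :=
        Nat.Coprime.pow_left _ ((Nat.Prime.coprime_iff_not_dvd hp).2 P.not_dvd_index)
      exact h3.dvd_of_dvd_mul_left ((Nat.ordProj_dvd i p).trans h2)
    have hpos : 0 < A.relIndex P := Nat.pos_of_ne_zero Subgroup.index_ne_zero_of_finite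
    have h4 : A.relIndex P ≤ P₀.relIndex P * A.relIndex P₀ := by
      have h5 : (A ⊓ P₀).relIndex P = A.relIndex P₀ * P₀.relIndex P := by
        rw [← Subgroup.relIndex_inf_mul_relIndex, inf_eq_left.2 hP₀P]
      rw [mul_comm, ← h5]
      exact Nat.le_of_dvd (Nat.pos_of_ne_zero Subgroup.index_ne_zero_of_finite)
        (Subgroup.relIndex_dvd_of_le_left _ inf_le_left)
    have h6 : A.relIndex P₀ ≤ B := hAB P₀ hP₀
    have h7 : P₀.relIndex P ∣ p ^ (n.factorial).factorization p := by
      obtain ⟨k, hk⟩ := IsPGroup.iff_card.1 P.isPGroup'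
      have h8 : P₀.relIndex P ∣ p ^ k := by
        rw [← hk]
        exact Subgroup.relIndex_dvd_card _ _
      obtain ⟨j, _, hj⟩ := (Nat.dvd_prime_pow hp).1 h8
      rw [hj] at hP₀n ⊢
      exact pow_dvd_pow p ((hp.pow_dvd_iff_le_factorization (Nat.factorial_ne_zero n)).1 hP₀n)
    have h9 : P₀.relIndex P ≤ p ^ (n.factorial).factorization p :=
      Nat.le_of_dvd (pow_pos hp.pos _) h7
    calc p ^ i.factorization p ≤ A.relIndex P := Nat.le_of_dvd hpos h1
      _ ≤ P₀.relIndex P * A.relIndex P₀ := h4
      _ ≤ p ^ (n.factorial).factorization p * B := Nat.mul_le_mul h9 h6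
  -- large primes
  have hlarge : ∏ p ∈ i.primeFactors.filter (fun p => ¬ p ≤ n + 1), p ^ i.factorization p ≤ B := by
    obtain ⟨H, hH, hH1, hH2⟩ := hhall
    have h1 : ∏ p ∈ i.primeFactors.filter (fun p => ¬ p ≤ n + 1), p ^ i.factorization p ∣
        A.relIndex H := by
      apply Finset.prod_dvd_of_isRelPrime
      · intro p hp q hq hpq
        have hp' := (Nat.prime_of_mem_primeFactors (Finset.mem_filter.1 hp).1)
        have hq' := (Nat.prime_of_mem_primeFactors (Finset.mem_filter.1 hq).1)
        show IsRelPrime (p ^ i.factorization p) (q ^ i.factorization q)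
        rw [← Nat.coprime_iff_isRelPrime]
        exact Nat.Coprime.pow _ _ ((Nat.coprime_primes hp' hq').2 hpq)
      · intro p hp
        have hp' := (Nat.prime_of_mem_primeFactors (Finset.mem_filter.1 hp).1)
        have hpn := (Finset.mem_filter.1 hp).2
        have h2 : i ∣ H.index * A.relIndex H := by
          rw [mul_comm, ← Subgroup.inf_relIndex_right, Subgroup.relIndex_mul_index inf_le_right]
          exact Subgroup.index_dvd_of_le inf_le_left
        have h3 : (p ^ i.factorization p).Coprime H.index :=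
          Nat.Coprime.pow_left _ ((Nat.Prime.coprime_iff_not_dvd hp').2
            (fun h => hpn (hH2 p hp' h)))
        exact h3.dvd_of_dvd_mul_left ((Nat.ordProj_dvd i p).trans h2)
    exact (Nat.le_of_dvd (Nat.pos_of_ne_zero Subgroup.index_ne_zero_of_finite) h1).trans (hAB H hH)
  -- the product
  have hprod : i = (∏ p ∈ i.primeFactors.filter (fun p => p ≤ n + 1), p ^ i.factorization p) *
      ∏ p ∈ i.primeFactors.filter (fun p => ¬ p ≤ n + 1), p ^ i.factorization p := by
    rw [Finset.prod_filter_mul_prod_filter_not]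
    exact (Nat.prod_factorization_pow_eq_self hi0).symm
  have hS : ∏ p ∈ i.primeFactors.filter (fun p => p ≤ n + 1), p ^ i.factorization p ≤
      n.factorial * B ^ Nat.primeCounting (n + 1) := by
    let S := (Finset.range (n + 2)).filter Nat.Prime
    have hcard : S.card = Nat.primeCounting (n + 1) := by
      rw [Nat.primeCounting, Nat.primeCounting', Nat.count_eq_card_filter_range]
    have hsub : i.primeFactors.filter (fun p => p ≤ n + 1) ⊆ S := by
      intro p hp
      obtain ⟨h1, h2⟩ := Finset.mem_filter.1 hp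
      exact Finset.mem_filter.2 ⟨Finset.mem_range.2 (by omega), Nat.prime_of_mem_primeFactors h1⟩
    calc ∏ p ∈ i.primeFactors.filter (fun p => p ≤ n + 1), p ^ i.factorization p
        ≤ ∏ p ∈ S, p ^ i.factorization p := by
          apply Finset.prod_le_prod_of_subset_of_one_le' hsub
          intro p hp _
          exact Nat.one_le_pow _ _ (Finset.mem_filter.1 hp).2.pos
      _ ≤ ∏ p ∈ S, (p ^ (n.factorial).factorization p * B) :=
          Finset.prod_le_prod' fun p hp => hsmall p (Finset.mem_filter.1 hp).2
      _ = (∏ p ∈ S, p ^ (n.factorial).factorization p) * B ^ Nat.primeCounting (n + 1) := by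
          rw [Finset.prod_mul_distrib, Finset.prod_const, hcard]
      _ ≤ n.factorial * B ^ Nat.primeCounting (n + 1) := by
          apply Nat.mul_le_mul_right
          apply Nat.le_of_dvd (Nat.factorial_pos n)
          apply Finset.prod_dvd_of_isRelPrime
          · intro p hp q hq hpq
            have hp' := (Finset.mem_filter.1 hp).2
            have hq' := (Finset.mem_filter.1 hq).2
            show IsRelPrime (p ^ _) (q ^ _)
            rw [← Nat.coprime_iff_isRelPrime]
            exact Nat.Coprime.pow _ _ ((Nat.coprime_primes hp' hq').2 hpq)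
          · intro p _
            exact Nat.ordProj_dvd _ p
  calc i = _ := hprod
    _ ≤ (n.factorial * B ^ Nat.primeCounting (n + 1)) * B := Nat.mul_le_mul hS hlarge
    _ = n.factorial * B ^ (Nat.primeCounting (n + 1) + 1) := by rw [pow_succ, mul_assoc]

/-- Sylow subgroups of linear groups of degree `n` have abelian subgroups of index dividing
`n!`. -/
theorem exists_abelian_sylow {G : Type u} [Group G] [Finite G] {V : Type} [AddCommGroup V]
    [Module ℂ V] [FiniteDimensional ℂ V] (ρ : Representation ℂ G V) (hρ : Function.Injective ρ)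
    (p : ℕ) [Fact p.Prime] (P : Sylow p G) :
    ∃ P₀ : Subgroup G, P₀ ≤ P ∧ (∀ x ∈ P₀, ∀ y ∈ P₀, x * y = y * x) ∧
      P₀.relIndex P ∣ (finrank ℂ V).factorial := by
  have : Group.IsNilpotent P := P.isPGroup'.isNilpotent
  let σ : Representation ℂ P V := ρ.comp (P : Subgroup G).subtype
  have hσ : Function.Injective σ := fun a b hab => Subtype.ext (hρ hab)
  obtain ⟨ι, hι, b, hb⟩ := Cfsg.Agent.H599.Mono.exists_mono_basis σ
  obtain ⟨A, hA, hA1⟩ := Cfsg.Agent.H599.Mono.exists_abelian_of_mono σ hσ b hb
  refine ⟨A.map (P : Subgroup G).subtype, Subgroup.map_subtype_le _, ?_, ?_⟩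
  · rintro _ ⟨x, hx, rfl⟩ _ ⟨y, hy, rfl⟩
    exact congrArg Subtype.val (hA x hx y hy)
  · have h1 : (A.map (P : Subgroup G).subtype).relIndex (P : Subgroup G) = A.index := by
      rw [Subgroup.relIndex, Subgroup.subgroupOf, Subgroup.comap_map_eq_self_of_injective
        (P : Subgroup G).subtype_injective]
    rw [h1]
    exact hA1

end Cfsg.Agent.H599.Jordan
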